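import Cfsg.Agent.RuLat.Prep
import Cfsg.Agent.Ru900.Min

/-!
The Rudvalis group `Cfsg.Spor.Ru` (unitary automorphisms of the lattice modulo scalars) is the automorphism group of
the rank 3 graph on 4060 points.
-/

set_option autoImplicit false

namespace Cfsg.Agent.RuLat.Main

open Cfsg.Agent.RuLat Cfsg.Agent.SporadicB

theorem hyp : Hyp := Prep.hyp_of_complete fun _ hx h16 => Cfsg.Agent.Ru900.Min.minimal hx h16

/-- the group of the lattice modulo scalars is the group of the graph -/
noncomputable def equiv : Cfsg.Spor.Ru ≃* RuOrder.H := hyp.equiv Prep.span_bl (onto hyp Prep.span_bl)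

theorem main : Nat.card ↥(Subgroup.center ↥Cfsg.Spor.fourRu) = 4 ∧ Nat.card Cfsg.Spor.Ru = 145926144000 ∧
    IsSimpleGroup Cfsg.Spor.Ru := final hyp Prep.span_bl

end Cfsg.Agent.RuLat.Main
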