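import Cfsg.Agent.RuLat.Group
import Cfsg.Agent.SporadicB.RuSimple

set_option autoImplicit false

/-!
The homomorphism from `fourRu` to the automorphism group of the Rudvalis graph (from the facts about the minimal
vectors collected in `Hyp`), its kernel and its image.
-/

namespace Cfsg.Agent.RuLat

open Cfsg.Spor Cfsg.Agent.SporadicB Cfsg.Agent.Lib.BitNet

/-- the facts about the 4060 lines of minimal vectors -/
structure Hyp : Prop where
  mem : ∀ i : Fin 4060, vec i ∈ ruLattice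
  norm : ∀ i : Fin 4060, ruNorm (vec i) = 16
  complete : ∀ x ∈ ruLattice, ruNorm x = 16 → ∃ i : Fin 4060, ∃ e < 4, x = gI ^ e • vec i
  orth : ∀ v w : Fin 4060, herm (vec v) (vec w) = 0 ↔ (RuData.row v).testBit w = true
  distinct : ∀ v w : Fin 4060, (∀ k : Fin 4060, (RuData.row v).testBit k = (RuData.row w).testBit k) → v = w
  conn : ∀ j : Fin 4060, ∃ k : Fin 4060, (RuData.row 0).testBit k = false ∧ (RuData.row j).testBit k = false

theorem herm_gI_pow (e : ℕ) (x y : RuVec) : herm (gI ^ e • x) (gI ^ e • y) = herm x y := by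
  rw [herm_smul_left, herm_smul_right, star_pow, ← mul_assoc, ← mul_pow, gI_mul_star, one_pow, one_mul]

theorem gI_pow_mul_star (e : ℕ) : gI ^ e * star gI ^ e = 1 := by
  rw [← mul_pow, gI_mul_star, one_pow]

theorem gI_pow_ne_zero (e : ℕ) : gI ^ e ≠ 0 := by
  intro h
  have := gI_pow_mul_star e
  rw [h, zero_mul] at this
  exact zero_ne_one this

theorem star_gI_pow_ne_zero (e : ℕ) : star (gI ^ e) ≠ 0 := by
  rw [star_ne_zero]
  exact gI_pow_ne_zero e

theorem gI_pow_inj {e e' : ℕ} (he : e < 4) (he' : e' < 4) (h : gI ^ e = gI ^ e') : e = e' := by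
  have h0 : gI ^ 0 = 1 := pow_zero _
  have h1 : gI ^ 1 = gI := pow_one _
  have h2 : gI ^ 2 = -1 := by rw [pow_two, gI_mul_self]
  have h3 : gI ^ 3 = -gI := by rw [pow_succ, h2]; ring
  interval_cases e <;> interval_cases e' <;> first
    | rfl
    | (exfalso; simp only [h0, h1, h2, h3] at h; revert h; decide)

theorem Hyp.mem' (Y : Hyp) (f : fourRu) (i : Fin 4060) :
    ∃ j : Fin 4060, ∃ e < 4, ((f.1 ⟨vec i, Y.mem i⟩ : ruLattice) : RuVec) = gI ^ e • vec j :=
  Y.complete _ (f.1 ⟨vec i, Y.mem i⟩).2 (by rw [four_norm f.2]; exact Y.norm i)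

/-- the line to which `f` maps the line `i` -/
noncomputable def Hyp.im (Y : Hyp) (f : fourRu) (i : Fin 4060) : Fin 4060 := (Y.mem' f i).choose

theorem Hyp.im_spec (Y : Hyp) (f : fourRu) (i : Fin 4060) :
    ∃ e < 4, ((f.1 ⟨vec i, Y.mem i⟩ : ruLattice) : RuVec) = gI ^ e • vec (Y.im f i) := (Y.mem' f i).choose_spec

theorem Hyp.herm_zero_iff (Y : Hyp) {e e' : ℕ} (v w : Fin 4060) :
    herm (gI ^ e • vec v) (gI ^ e' • vec w) = 0 ↔ (RuData.row v).testBit w = true := by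
  rw [← Y.orth, herm_smul_left, herm_smul_right]
  constructor
  · intro h
    rcases mul_eq_zero.1 h with h | h
    · exact absurd h (gI_pow_ne_zero e)
    · rcases mul_eq_zero.1 h with h | h
      · exact absurd h (star_gI_pow_ne_zero e')
      · exact h
  · intro h
    rw [h, mul_zero, mul_zero]

theorem Hyp.line_unique (Y : Hyp) {e e' : ℕ} {v w : Fin 4060} (h : gI ^ e • vec v = gI ^ e' • vec w) : v = w := by
  apply Y.distinct
  intro k
  rw [Bool.eq_iff_iff, ← Y.herm_zero_iff (e := e) (e' := 0) v k, ← Y.herm_zero_iff (e := e') (e' := 0) w k, h]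

theorem Hyp.im_unique (Y : Hyp) (f : fourRu) (i j : Fin 4060) (e : ℕ)
    (h : ((f.1 ⟨vec i, Y.mem i⟩ : ruLattice) : RuVec) = gI ^ e • vec j) : Y.im f i = j := by
  obtain ⟨e', _, h'⟩ := Y.im_spec f i
  exact Y.line_unique (h'.symm.trans h)

theorem Hyp.im_mul (Y : Hyp) (f g : fourRu) (i : Fin 4060) : Y.im (f * g) i = Y.im f (Y.im g i) := by
  obtain ⟨e, _, h⟩ := Y.im_spec g i
  obtain ⟨e', _, h'⟩ := Y.im_spec f (Y.im g i)
  apply Y.im_unique _ _ _ (e + e')
  have h1 : ((f * g).1 ⟨vec i, Y.mem i⟩ : ruLattice) = f.1 (g.1 ⟨vec i, Y.mem i⟩) := rfl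
  have h2 : (g.1 ⟨vec i, Y.mem i⟩ : ruLattice) = ⟨gI ^ e • vec (Y.im g i), smul_mem _ (Y.mem _)⟩ := Subtype.ext h
  rw [h1, h2, four_smul f.2 _ _ (Y.mem _), h', smul_smul, pow_add]

theorem Hyp.im_one (Y : Hyp) (i : Fin 4060) : Y.im 1 i = i := by
  apply Y.im_unique _ _ _ 0
  rw [pow_zero, one_smul]
  rfl

/-- the permutation of the lines induced by `f` -/
noncomputable def Hyp.hom (Y : Hyp) : fourRu →* Equiv.Perm (Fin 4060) where
  toFun := fun f =>
    { toFun := Y.im f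
      invFun := Y.im f⁻¹
      left_inv := fun i => by rw [← Y.im_mul, inv_mul_cancel, Y.im_one]
      right_inv := fun i => by rw [← Y.im_mul, mul_inv_cancel, Y.im_one] }
  map_one' := Equiv.ext fun i => Y.im_one i
  map_mul' := fun f g => Equiv.ext fun i => Y.im_mul f g i

theorem Hyp.hom_apply (Y : Hyp) (f : fourRu) (i : Fin 4060) : Y.hom f i = Y.im f i := rfl

theorem Hyp.hom_mem (Y : Hyp) (f : fourRu) : Y.hom f ∈ RuOrder.H := by
  change Y.hom f ∈ Aut 4060 RuData.row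
  rw [mem_Aut]
  intro u v
  rw [Y.hom_apply, Y.hom_apply, Bool.eq_iff_iff]
  obtain ⟨e, _, h⟩ := Y.im_spec f u
  obtain ⟨e', _, h'⟩ := Y.im_spec f v
  rw [← Y.herm_zero_iff (e := e) (e' := e') (Y.im f u) (Y.im f v), ← h, ← h', four_herm f.2, Y.orth]

/-! ### the kernel -/

theorem Hyp.herm_self_ne (Y : Hyp) (i : Fin 4060) : herm (vec i) (vec i) ≠ 0 := by
  rw [herm_self, Y.norm]
  decide

theorem Hyp.scalar_of_hom_eq_one (Y : Hyp) {f : fourRu} (hf : Y.hom f = 1) :
    ∃ e < 4, ∀ i : Fin 4060, ((f.1 ⟨vec i, Y.mem i⟩ : ruLattice) : RuVec) = gI ^ e • vec i := by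
  have h1 : ∀ i : Fin 4060, ∃ e < 4, ((f.1 ⟨vec i, Y.mem i⟩ : ruLattice) : RuVec) = gI ^ e • vec i := by
    intro i
    have h2 : Y.im f i = i := by rw [← Y.hom_apply, hf]; rfl
    have h3 := Y.im_spec f i
    rw [h2] at h3
    exact h3
  have key : ∀ (i k : Fin 4060) (e e' : ℕ), (RuData.row i).testBit k = false → e < 4 → e' < 4 →
      ((f.1 ⟨vec i, Y.mem i⟩ : ruLattice) : RuVec) = gI ^ e • vec i →
      ((f.1 ⟨vec k, Y.mem k⟩ : ruLattice) : RuVec) = gI ^ e' • vec k → e = e' := by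
    intro i k e e' hik he he' h h'
    have h2 : herm (vec i) (vec k) ≠ 0 := by
      intro hc
      rw [Y.orth, hik] at hc
      exact Bool.false_ne_true hc
    have h3 := four_herm f.2 ⟨vec i, Y.mem i⟩ ⟨vec k, Y.mem k⟩
    rw [h, h', herm_smul_left, herm_smul_right, ← mul_assoc] at h3
    have h4 : gI ^ e * star (gI ^ e') = 1 := mul_right_cancel₀ h2 (h3.trans (one_mul _).symm)
    have h5 : gI ^ e = gI ^ e' := by
      have h6 := gI_pow_mul_star e'
      calc gI ^ e = gI ^ e * (gI ^ e' * star gI ^ e') := by rw [h6, mul_one]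
        _ = gI ^ e' * (gI ^ e * star (gI ^ e')) := by rw [star_pow]; ring
        _ = gI ^ e' := by rw [h4, mul_one]
    exact gI_pow_inj he he' h5
  obtain ⟨e, he, h0⟩ := h1 0
  refine ⟨e, he, fun i => ?_⟩
  obtain ⟨k, hk0, hki⟩ := Y.conn i
  obtain ⟨e', he', h2⟩ := h1 i
  obtain ⟨e'', he'', h3⟩ := h1 k
  have h4 := key 0 k e e'' hk0 he he'' h0 h3
  have h5 := key i k e' e'' hki he' he'' h2 h3
  rw [h2, h5, ← h4]

/-- 28 spanning lines -/
structure Span (b : Fin 28 → Fin 4060) : Prop where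
  span : ∀ x ∈ ruLattice, ∃ c : Fin 28 → GaussianInt, x = ∑ j, c j • vec (b j)

theorem iPow_mem (e : ℕ) : iPerm ^ e ∈ fourRu := fourRu.pow_mem iPerm_mem e

theorem Hyp.eq_iPow (Y : Hyp) {b : Fin 28 → Fin 4060} (S : Span b) {f : fourRu} (hf : Y.hom f = 1) :
    ∃ e < 4, f = ⟨iPerm ^ e, iPow_mem e⟩ := by
  obtain ⟨e, he, h⟩ := Y.scalar_of_hom_eq_one hf
  refine ⟨e, he, Subtype.ext (Equiv.ext fun x => Subtype.ext ?_)⟩
  change (f.1 x : RuVec) = ((iPerm ^ e) x : RuVec)
  rw [coe_iPerm_pow]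
  obtain ⟨c, hc⟩ := S.span x x.2
  have e1 : x = ⟨∑ j, c j • vec (b j), sum_mem' _ c _ fun j => Y.mem (b j)⟩ := Subtype.ext hc
  have e2 := four_sum f.2 Finset.univ c (fun j => vec (b j)) (fun j => Y.mem (b j))
  rw [← e1] at e2
  rw [e2, hc, Finset.smul_sum]
  apply Finset.sum_congr rfl
  intro j _
  rw [h, smul_smul, smul_smul, mul_comm]

theorem Hyp.hom_iPow (Y : Hyp) (e : ℕ) : Y.hom ⟨iPerm ^ e, iPow_mem e⟩ = 1 := by
  apply Equiv.ext
  intro i
  rw [Y.hom_apply]
  apply Y.im_unique _ _ _ e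
  exact coe_iPerm_pow e _

theorem iPow_inj (Y : Hyp) {e e' : ℕ} (he : e < 4) (he' : e' < 4) (h : iPerm ^ e = iPerm ^ e') : e = e' := by
  have h1 := congrArg (fun g : Equiv.Perm ruLattice => ((g ⟨vec 0, Y.mem 0⟩ : ruLattice) : RuVec)) h
  simp only [coe_iPerm_pow] at h1
  have h2 := congrArg (fun z => herm z (vec 0)) h1
  simp only [herm_smul_left] at h2
  exact gI_pow_inj he he' (mul_right_cancel₀ (Y.herm_self_ne 0) h2)

theorem Hyp.card_ker (Y : Hyp) {b : Fin 28 → Fin 4060} (S : Span b) : Nat.card Y.hom.ker = 4 := by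
  let φ : Fin 4 → Y.hom.ker := fun e => ⟨⟨iPerm ^ (e : ℕ), iPow_mem e⟩, Y.hom_iPow e⟩
  have hφ : Function.Bijective φ := by
    constructor
    · intro e e' h
      have h1 : iPerm ^ (e : ℕ) = iPerm ^ (e' : ℕ) := congrArg (fun z : Y.hom.ker => z.1.1) h
      exact Fin.ext (iPow_inj Y e.2 e'.2 h1)
    · rintro ⟨f, hf⟩
      obtain ⟨e, he, h⟩ := Y.eq_iPow S hf
      exact ⟨⟨e, he⟩, Subtype.ext h.symm⟩
  rw [← Nat.card_eq_of_bijective φ hφ, Nat.card_fin]

/-! ### the centre -/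

theorem center_H : Subgroup.center RuOrder.H = ⊥ := by
  have hs := RuSimple.isSimpleGroup_H
  rcases hs.eq_bot_or_eq_top_of_normal (Subgroup.center RuOrder.H) inferInstance with h | h
  · exact h
  · exfalso
    have h1 : IsSolvable RuOrder.H := by
      have : IsMulCommutative RuOrder.H := ⟨⟨fun a b => ((Subgroup.mem_center_iff.1 (h ▸ Subgroup.mem_top a : a ∈ Subgroup.center RuOrder.H)) b).symm⟩⟩
      exact isSolvable_of_comm fun a b => this.is_comm.comm a b
    have h2 := (IsSimpleGroup.comm_iff_isSolvable (G := RuOrder.H)).2 h1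
    letI : CommGroup RuOrder.H := { (inferInstance : Group RuOrder.H) with mul_comm := h2 }
    have h3 := (IsSimpleGroup.prime_card (α := RuOrder.H))
    rw [RuOrder.card_H] at h3
    revert h3
    norm_num

/-- image of `fourRu` is the whole automorphism group of the graph -/
def Hyp.Onto (Y : Hyp) : Prop := RuOrder.H ≤ Y.hom.range

theorem Hyp.range_eq (Y : Hyp) (h : Y.Onto) : Y.hom.range = RuOrder.H := by
  apply le_antisymm _ h
  rintro _ ⟨f, rfl⟩
  exact Y.hom_mem f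

theorem Hyp.ker_eq (Y : Hyp) {b : Fin 28 → Fin 4060} (S : Span b) (h : Y.Onto) :
    Subgroup.center fourRu = Y.hom.ker := by
  apply le_antisymm
  · intro z hz
    rw [MonoidHom.mem_ker]
    have h1 : (⟨Y.hom z, Y.hom_mem z⟩ : RuOrder.H) ∈ Subgroup.center RuOrder.H := by
      rw [Subgroup.mem_center_iff]
      rintro ⟨g, hg⟩
      obtain ⟨f, rfl⟩ := h hg
      apply Subtype.ext
      change Y.hom f * Y.hom z = Y.hom z * Y.hom f
      rw [← map_mul, ← map_mul, Subgroup.mem_center_iff.1 hz f]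
    rw [center_H, Subgroup.mem_bot] at h1
    exact congrArg Subtype.val h1
  · intro z hz
    obtain ⟨e, _, rfl⟩ := Y.eq_iPow S hz
    rw [Subgroup.mem_center_iff]
    intro g
    apply Subtype.ext
    change g.1 * iPerm ^ e = iPerm ^ e * g.1
    exact (Commute.pow_right (iPerm_comm g.2 : Commute g.1 iPerm) e).eq

/-- the isomorphism of `Ru` with the automorphism group of the graph -/
noncomputable def Hyp.equiv (Y : Hyp) {b : Fin 28 → Fin 4060} (S : Span b) (h : Y.Onto) : Ru ≃* RuOrder.H :=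
  ((QuotientGroup.quotientMulEquivOfEq (Y.ker_eq S h)).trans (QuotientGroup.quotientKerEquivRange Y.hom)).trans
    (MulEquiv.subgroupCongr (Y.range_eq h))

theorem Hyp.result (Y : Hyp) {b : Fin 28 → Fin 4060} (S : Span b) (h : Y.Onto) :
    Nat.card ↥(Subgroup.center ↥Cfsg.Spor.fourRu) = 4 ∧ Nat.card Cfsg.Spor.Ru = 145926144000 ∧
      IsSimpleGroup Cfsg.Spor.Ru := by
  refine ⟨?_, ?_, ?_⟩
  · rw [Y.ker_eq S h, Y.card_ker S]
  · rw [Nat.card_congr (Y.equiv S h).toEquiv, RuOrder.card_H]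
  · have := RuSimple.isSimpleGroup_H
    exact (Y.equiv S h).isSimpleGroup

end Cfsg.Agent.RuLat
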