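import Cfsg.Agent.RuLat.Data

set_option autoImplicit false

/-!
Elementary facts about the Hermitian product, the norm and the group `fourRu`.
-/

namespace Cfsg.Agent.RuLat

open Cfsg.Spor

/-! ### the Hermitian product -/

theorem herm_add_left (x y z : RuVec) : herm (x + y) z = herm x z + herm y z := by
  simp only [herm, Pi.add_apply, add_mul, Finset.sum_add_distrib]

theorem herm_smul_left (a : GaussianInt) (x z : RuVec) : herm (a • x) z = a * herm x z := by
  simp only [herm, Pi.smul_apply, smul_eq_mul, mul_assoc, Finset.mul_sum]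

theorem star_herm (x y : RuVec) : star (herm x y) = herm y x := by
  simp only [herm, star_sum, star_mul, star_star]

theorem herm_add_right (x y z : RuVec) : herm x (y + z) = herm x y + herm x z := by
  rw [← star_herm, herm_add_left, star_add, star_herm, star_herm]

theorem herm_smul_right (a : GaussianInt) (x z : RuVec) : herm x (a • z) = star a * herm x z := by
  rw [← star_herm, herm_smul_left, star_mul, star_herm, mul_comm]

theorem herm_zero_left (x : RuVec) : herm 0 x = 0 := by simp [herm]

theorem herm_zero_right (x : RuVec) : herm x 0 = 0 := by simp [herm]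

theorem herm_neg_left (x y : RuVec) : herm (-x) y = -herm x y := by
  simp only [herm, Pi.neg_apply, neg_mul, Finset.sum_neg_distrib]

theorem herm_neg_right (x y : RuVec) : herm x (-y) = -herm x y := by
  rw [← star_herm, herm_neg_left, star_neg, star_herm]

theorem herm_sub_left (x y z : RuVec) : herm (x - y) z = herm x z - herm y z := by
  rw [sub_eq_add_neg, herm_add_left, herm_neg_left, sub_eq_add_neg]

theorem herm_sub_right (x y z : RuVec) : herm x (y - z) = herm x y - herm x z := by
  rw [sub_eq_add_neg, herm_add_right, herm_neg_right, sub_eq_add_neg]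

theorem herm_sum_left {ι : Type*} (s : Finset ι) (f : ι → RuVec) (z : RuVec) :
    herm (∑ j ∈ s, f j) z = ∑ j ∈ s, herm (f j) z := by
  classical
  induction s using Finset.induction_on with
  | empty => simp [herm_zero_left]
  | insert a s ha ih => rw [Finset.sum_insert ha, Finset.sum_insert ha, herm_add_left, ih]

theorem herm_sum_right {ι : Type*} (s : Finset ι) (f : ι → RuVec) (z : RuVec) :
    herm z (∑ j ∈ s, f j) = ∑ j ∈ s, herm z (f j) := by
  classical
  induction s using Finset.induction_on with
  | empty => simp [herm_zero_right]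
  | insert a s ha ih => rw [Finset.sum_insert ha, Finset.sum_insert ha, herm_add_right, ih]

theorem mul_star_self (a : GaussianInt) : a * star a = (a.norm : GaussianInt) := by
  rw [← Zsqrtd.norm_eq_mul_conj]

theorem herm_self (x : RuVec) : herm x x = (ruNorm x : GaussianInt) := by
  simp only [herm, ruNorm, mul_star_self]
  push_cast
  rfl

theorem gaussian_norm_nonneg (a : GaussianInt) : 0 ≤ a.norm := GaussianInt.norm_nonneg a

theorem ruNorm_nonneg (x : RuVec) : 0 ≤ ruNorm x := Finset.sum_nonneg fun q _ => gaussian_norm_nonneg _

theorem eq_zero_of_ruNorm {x : RuVec} (h : ruNorm x = 0) : x = 0 := by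
  funext q
  have h1 := (Finset.sum_eq_zero_iff_of_nonneg (fun q _ => gaussian_norm_nonneg (x q))).1 h q (Finset.mem_univ q)
  exact (GaussianInt.norm_eq_zero).1 h1

theorem ruNorm_zero : ruNorm 0 = 0 := by simp [ruNorm]

theorem intCast_re (n : ℤ) : ((n : GaussianInt)).re = n := by simp

theorem intCast_im (n : ℤ) : ((n : GaussianInt)).im = 0 := by simp

theorem herm_self_re (x : RuVec) : (herm x x).re = ruNorm x := by rw [herm_self, intCast_re]

theorem ruNorm_add (x y : RuVec) : ruNorm (x + y) = ruNorm x + ruNorm y + 2 * (herm x y).re := by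
  have h : (herm (x + y) (x + y)).re = ruNorm x + ruNorm y + 2 * (herm x y).re := by
    rw [herm_add_left, herm_add_right, herm_add_right, ← star_herm x y]
    simp only [Zsqrtd.re_add, Zsqrtd.re_star, herm_self_re]
    ring
  rw [← h, herm_self_re]

theorem gI_mul_re (a : GaussianInt) : (gI * a).re = -a.im := by
  simp [gI, Zsqrtd.re_mul]

theorem gI_mul_im (a : GaussianInt) : (gI * a).im = a.re := by
  simp [gI, Zsqrtd.im_mul]

theorem gI_mul_self : gI * gI = -1 := by
  ext <;> simp [gI]

theorem star_gI : star gI = -gI := by
  ext <;> simp [gI]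

theorem gI_mul_star : gI * star gI = 1 := by
  rw [star_gI, mul_neg, gI_mul_self, neg_neg]

theorem norm_gI_mul (a : GaussianInt) : (gI * a).norm = a.norm := by
  rw [Zsqrtd.norm_mul]
  have : gI.norm = 1 := by decide
  rw [this, one_mul]

theorem ruNorm_gI_smul (x : RuVec) : ruNorm (gI • x) = ruNorm x := by
  simp only [ruNorm, Pi.smul_apply, smul_eq_mul, norm_gI_mul]

end Cfsg.Agent.RuLat
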