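import Cfsg.Agent.RuLat.Basic

set_option autoImplicit false

/-!
Coded vectors: 28 octal digits, digit 0 = zero entry, digit `1 + e` = entry `i^e`; kernel-computable Hermitian products.
-/

namespace Cfsg.Agent.RuLat

open Cfsg.Spor

/-- decoding of a digit -/
def dec (d : ℕ) : GaussianInt :=
  if d = 1 then ⟨1, 0⟩ else if d = 2 then ⟨0, 1⟩ else if d = 3 then ⟨-1, 0⟩ else if d = 4 then ⟨0, -1⟩ else 0

/-- the coded vector, scaled by `s` -/
def decv (C s : ℕ) : RuVec := fun q => (s : GaussianInt) * dec (C / 8 ^ cn q % 8)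

/-- table of `1 + re (dec a * star (dec b))`, two bits for each pair of digits -/
def tRe : ℕ := 0x55555555555556455591546555195555

/-- table of `1 + im (dec a * star (dec b))`, two bits for each pair of digits -/
def tIm : ℕ := 0x55555555555555915465551956455555

/-- table lookup -/
def look (T a b : ℕ) : ℕ := Nat.land (Nat.shiftRight T (Nat.mul 2 (Nat.add (Nat.mul 8 a) b))) 3

theorem look_re : ∀ a < 8, ∀ b < 8, (look tRe a b : ℤ) = 1 + (dec a * star (dec b)).re := by decide +kernel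

theorem look_im : ∀ a < 8, ∀ b < 8, (look tIm a b : ℤ) = 1 + (dec a * star (dec b)).im := by decide +kernel

/-- sum of the table values over the lowest `n` digits -/
noncomputable def hs (T : ℕ) (n : ℕ) : ℕ → ℕ → ℕ :=
  Nat.rec (fun _ _ => 0) (fun _ ih C D => Nat.add
    (Nat.land (Nat.shiftRight T (Nat.mul 2 (Nat.add (Nat.mul 8 (Nat.mod C 8)) (Nat.mod D 8)))) 3)
    (ih (Nat.div C 8) (Nat.div D 8))) n

theorem hs_eq (T : ℕ) : ∀ (n C D : ℕ), hs T n C D = ∑ p ∈ Finset.range n, look T (C / 8 ^ p % 8) (D / 8 ^ p % 8)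
  | 0, _, _ => rfl
  | n + 1, C, D => by
    have e : hs T (n + 1) C D = look T (C % 8) (D % 8) + hs T n (C / 8) (D / 8) := rfl
    rw [e, hs_eq T n, Finset.sum_range_succ', add_comm]
    congr 1
    · apply Finset.sum_congr rfl
      intro p _
      rw [Nat.div_div_eq_div_mul, Nat.div_div_eq_div_mul, ← pow_succ']
    · rw [pow_zero, Nat.div_one, Nat.div_one]

theorem sum_cn {M : Type*} [AddCommMonoid M] (F : ℕ → M) : ∑ q : RuIdx, F (cn q) = ∑ p ∈ Finset.range 28, F p := by
  rw [← Fin.sum_univ_eq_sum_range]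
  refine Fintype.sum_equiv (finProdFinEquiv : Fin 7 × Fin 4 ≃ Fin 28) _ _ fun q => ?_
  have : ((finProdFinEquiv q : Fin 28) : ℕ) = cn q := by
    rw [finProdFinEquiv_apply_val, cn, add_comm]
  rw [this]

theorem natCast_re (s : ℕ) : ((s : GaussianInt)).re = s := by simp

theorem natCast_im (s : ℕ) : ((s : GaussianInt)).im = 0 := by simp

theorem natCast_mul_re (s : ℕ) (a : GaussianInt) : ((s : GaussianInt) * a).re = s * a.re := by
  rw [Zsqrtd.re_mul, natCast_re, natCast_im]; ring

theorem natCast_mul_im (s : ℕ) (a : GaussianInt) : ((s : GaussianInt) * a).im = s * a.im := by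
  rw [Zsqrtd.im_mul, natCast_re, natCast_im]; ring

theorem herm_decv (C s D t : ℕ) : herm (decv C s) (decv D t) =
    ((s * t : ℕ) : GaussianInt) * ∑ p ∈ Finset.range 28, dec (C / 8 ^ p % 8) * star (dec (D / 8 ^ p % 8)) := by
  rw [herm, ← sum_cn (fun p => dec (C / 8 ^ p % 8) * star (dec (D / 8 ^ p % 8))), Finset.mul_sum]
  apply Finset.sum_congr rfl
  intro q _
  simp only [decv, star_mul, star_natCast]
  push_cast
  ring

theorem sum_re {ι : Type*} (S : Finset ι) (f : ι → GaussianInt) : (∑ j ∈ S, f j).re = ∑ j ∈ S, (f j).re := by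
  classical
  induction S using Finset.induction_on with
  | empty => rfl
  | insert a s ha ih => rw [Finset.sum_insert ha, Finset.sum_insert ha, Zsqrtd.re_add, ih]

theorem sum_im {ι : Type*} (S : Finset ι) (f : ι → GaussianInt) : (∑ j ∈ S, f j).im = ∑ j ∈ S, (f j).im := by
  classical
  induction S using Finset.induction_on with
  | empty => rfl
  | insert a s ha ih => rw [Finset.sum_insert ha, Finset.sum_insert ha, Zsqrtd.im_add, ih]

theorem hs_re (C D : ℕ) : (hs tRe 28 C D : ℤ) =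
    28 + (∑ p ∈ Finset.range 28, dec (C / 8 ^ p % 8) * star (dec (D / 8 ^ p % 8))).re := by
  rw [sum_re, hs_eq, Nat.cast_sum]
  have h : ∀ p ∈ Finset.range 28, (look tRe (C / 8 ^ p % 8) (D / 8 ^ p % 8) : ℤ) =
      1 + (dec (C / 8 ^ p % 8) * star (dec (D / 8 ^ p % 8))).re := fun p _ =>
    look_re _ (Nat.mod_lt _ (by norm_num)) _ (Nat.mod_lt _ (by norm_num))
  rw [Finset.sum_congr rfl h, Finset.sum_add_distrib, Finset.sum_const, Finset.card_range, nsmul_eq_mul, mul_one]
  rfl

theorem hs_im (C D : ℕ) : (hs tIm 28 C D : ℤ) =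
    28 + (∑ p ∈ Finset.range 28, dec (C / 8 ^ p % 8) * star (dec (D / 8 ^ p % 8))).im := by
  rw [sum_im, hs_eq, Nat.cast_sum]
  have h : ∀ p ∈ Finset.range 28, (look tIm (C / 8 ^ p % 8) (D / 8 ^ p % 8) : ℤ) =
      1 + (dec (C / 8 ^ p % 8) * star (dec (D / 8 ^ p % 8))).im := fun p _ =>
    look_im _ (Nat.mod_lt _ (by norm_num)) _ (Nat.mod_lt _ (by norm_num))
  rw [Finset.sum_congr rfl h, Finset.sum_add_distrib, Finset.sum_const, Finset.card_range, nsmul_eq_mul, mul_one]
  rfl

theorem herm_decv_re (C s D t : ℕ) : (herm (decv C s) (decv D t)).re = (s * t : ℕ) * ((hs tRe 28 C D : ℤ) - 28) := by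
  rw [herm_decv, natCast_mul_re, hs_re, add_sub_cancel_left]

theorem herm_decv_im (C s D t : ℕ) : (herm (decv C s) (decv D t)).im = (s * t : ℕ) * ((hs tIm 28 C D : ℤ) - 28) := by
  rw [herm_decv, natCast_mul_im, hs_im, add_sub_cancel_left]

/-- equality of two Hermitian products of coded vectors -/
noncomputable def hermEq (C s D t C' s' D' t' : ℕ) : Bool :=
  Nat.beq (Nat.add (Nat.mul (Nat.mul s t) (hs tRe 28 C D)) (Nat.mul 28 (Nat.mul s' t')))
    (Nat.add (Nat.mul (Nat.mul s' t') (hs tRe 28 C' D')) (Nat.mul 28 (Nat.mul s t))) &&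
  Nat.beq (Nat.add (Nat.mul (Nat.mul s t) (hs tIm 28 C D)) (Nat.mul 28 (Nat.mul s' t')))
    (Nat.add (Nat.mul (Nat.mul s' t') (hs tIm 28 C' D')) (Nat.mul 28 (Nat.mul s t)))

theorem hermEq_sound {C s D t C' s' D' t' : ℕ} (h : hermEq C s D t C' s' D' t' = true) :
    herm (decv C s) (decv D t) = herm (decv C' s') (decv D' t') := by
  rw [hermEq, Bool.and_eq_true] at h
  have h1 : s * t * hs tRe 28 C D + 28 * (s' * t') = s' * t' * hs tRe 28 C' D' + 28 * (s * t) :=
    Nat.eq_of_beq_eq_true h.1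
  have h2 : s * t * hs tIm 28 C D + 28 * (s' * t') = s' * t' * hs tIm 28 C' D' + 28 * (s * t) :=
    Nat.eq_of_beq_eq_true h.2
  apply Zsqrtd.ext
  · rw [herm_decv_re, herm_decv_re]
    have h3 := congrArg (fun z : ℕ => (z : ℤ)) h1
    push_cast at h3 ⊢
    linarith
  · rw [herm_decv_im, herm_decv_im]
    have h3 := congrArg (fun z : ℕ => (z : ℤ)) h2
    push_cast at h3 ⊢
    linarith

/-! ### coding the lines -/

/-- digit of the line `i` in a plane triple, rotated by `i^e` -/
noncomputable def digP (e i : ℕ) (P : ℕ × ℕ × ℕ) : ℕ :=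
  cond (Nat.testBit P.1 i) (Nat.add 1 (Nat.mod (Nat.add (cond (Nat.testBit P.2.2 i) 2 0) e) 4))
    (cond (Nat.testBit P.2.1 i) (Nat.add 1 (Nat.mod (Nat.add (cond (Nat.testBit P.2.2 i) 3 1) e) 4)) 0)

/-- packed digits of `i^e * vec i` -/
noncomputable def packL (e i : ℕ) (l : List (ℕ × ℕ × ℕ)) : ℕ :=
  List.rec 0 (fun P _ ih => Nat.add (digP e i P) (Nat.mul 8 ih)) l

theorem digP_lt (e i : ℕ) (P : ℕ × ℕ × ℕ) : digP e i P < 8 := by
  unfold digP
  have h1 : ∀ x, x % 4 < 4 := fun x => Nat.mod_lt _ (by norm_num)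
  cases Nat.testBit P.1 i <;> cases Nat.testBit P.2.1 i <;> simp only [cond_true, cond_false]
  · norm_num
  · have := h1 ((cond (Nat.testBit P.2.2 i) 3 1).add e)
    change 1 + _ % 4 < 8
    omega
  · have := h1 ((cond (Nat.testBit P.2.2 i) 2 0).add e)
    change 1 + _ % 4 < 8
    omega
  · have := h1 ((cond (Nat.testBit P.2.2 i) 2 0).add e)
    change 1 + _ % 4 < 8
    omega

theorem packL_digit (e i : ℕ) : ∀ (l : List (ℕ × ℕ × ℕ)) (p : ℕ),
    packL e i l / 8 ^ p % 8 = digP e i (l.getD p (0, 0, 0))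
  | [], p => by
    have e1 : packL e i [] = 0 := rfl
    rw [e1, Nat.zero_div, List.getD_nil]
    rw [digP, Nat.zero_testBit]
    rfl
  | P :: l, 0 => by
    have e1 : packL e i (P :: l) = digP e i P + 8 * packL e i l := rfl
    rw [e1, pow_zero, Nat.div_one, Nat.add_mul_mod_self_left, Nat.mod_eq_of_lt (digP_lt e i P), List.getD_cons_zero]
  | P :: l, p + 1 => by
    have e1 : packL e i (P :: l) = digP e i P + 8 * packL e i l := rfl
    rw [e1, pow_succ', ← Nat.div_div_eq_div_mul, Nat.add_mul_div_left _ _ (by norm_num : 0 < 8),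
      Nat.div_eq_of_lt (digP_lt e i P), Nat.zero_add, packL_digit e i l p, List.getD_cons_succ]

theorem dec_mod (k : ℕ) : dec (1 + k % 4) = gI ^ k := by
  have h4 : gI ^ 4 = 1 := by
    have : gI ^ 4 = (gI * gI) * (gI * gI) := by ring
    rw [this, gI_mul_self]; ring
  have e1 : gI ^ k = gI ^ (k % 4) := by
    conv_lhs => rw [← Nat.mod_add_div k 4, pow_add, pow_mul, h4, one_pow, mul_one]
  rw [e1]
  have h : k % 4 < 4 := Nat.mod_lt _ (by norm_num)
  generalize k % 4 = r at h ⊢
  have h2 : gI ^ 2 = -1 := by rw [pow_two, gI_mul_self]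
  interval_cases r
  · rw [pow_zero]; rfl
  · rw [pow_one]; rfl
  · rw [h2]; rfl
  · rw [pow_succ, h2]; rfl

theorem disj : (planes.all fun P => Nat.beq (Nat.land P.1 P.2.1) 0) = true := by decide +kernel

theorem not_both (i p : ℕ) : ¬ ((planes.getD p (0, 0, 0)).1.testBit i = true ∧
    (planes.getD p (0, 0, 0)).2.1.testBit i = true) := by
  rintro ⟨h1, h2⟩
  by_cases hp : p < planes.length
  · have hm : planes.getD p (0, 0, 0) ∈ planes := by
      rw [List.getD_eq_getElem _ _ hp]
      exact List.getElem_mem hp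
    have h3 := List.all_eq_true.1 disj _ hm
    have h4 : (planes.getD p (0, 0, 0)).1 &&& (planes.getD p (0, 0, 0)).2.1 = 0 := Nat.eq_of_beq_eq_true h3
    have h5 : ((planes.getD p (0, 0, 0)).1 &&& (planes.getD p (0, 0, 0)).2.1).testBit i = true := by
      rw [Nat.testBit_land, h1, h2]; rfl
    rw [h4, Nat.zero_testBit] at h5
    exact Bool.false_ne_true h5
  · rw [List.getD_eq_default _ _ (not_lt.1 hp), Nat.zero_testBit] at h1
    exact Bool.false_ne_true h1

theorem dec_digP (e i p : ℕ) : dec (digP e i (planes.getD p (0, 0, 0))) = gI ^ e * uent i p := by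
  have h0 : dec 0 = 0 := rfl
  have h2 : gI ^ 2 = -1 := by rw [pow_two, gI_mul_self]
  have h3 : gI ^ 3 = -gI := by rw [pow_succ, h2]; ring
  have nb := not_both i p
  unfold digP uent pR pI pS
  generalize planes.getD p (0, 0, 0) = P at nb ⊢
  obtain ⟨R, I, S⟩ := P
  dsimp only at nb ⊢
  have m1 : ∀ x y : ℕ, Nat.add 1 (Nat.mod (Nat.add x y) 4) = 1 + (x + y) % 4 := fun _ _ => rfl
  cases hR : R.testBit i <;> cases hI : I.testBit i <;> cases S.testBit i <;>
    simp only [cond_true, cond_false, Bool.false_eq_true, if_true, if_false, m1, dec_mod, h0]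
  · exact (mul_zero _).symm
  · exact (mul_zero _).symm
  · rw [pow_add, pow_one, mul_comm]; rfl
  · rw [pow_add, h3, mul_comm]; rfl
  · rw [zero_add]; exact (mul_one _).symm
  · rw [pow_add, h2, mul_comm]; rfl
  · exact absurd ⟨hR, hI⟩ nb
  · exact absurd ⟨hR, hI⟩ nb

/-- the scale as a natural number -/
noncomputable def scaleN (i : ℕ) : ℕ := cond (Nat.testBit frameMask i) 4 1

theorem scale_eq (i : ℕ) : scale i = (scaleN i : ℕ) := by
  unfold scale scaleN
  cases h : Nat.testBit frameMask i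
  · simp
  · simp

theorem decv_packL (e i : ℕ) : decv (packL e i planes) (scaleN i) = gI ^ e • vec i := by
  funext q
  rw [decv, packL_digit, dec_digP, Pi.smul_apply, smul_eq_mul, vec, scale_eq]
  ring

end Cfsg.Agent.RuLat
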