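import Cfsg.Agent.RuLat.Basic

set_option autoImplicit false

/-!
The group `fourRu`: its elements preserve the Hermitian product; scalars; construction of elements from equal Gram
matrices.
-/

namespace Cfsg.Agent.RuLat

open Cfsg.Spor

theorem four_add {f : Equiv.Perm ruLattice} (hf : f ∈ fourRu) (v w : ruLattice) : f (v + w) = f v + f w := hf.1 v w

theorem four_I {f : Equiv.Perm ruLattice} (hf : f ∈ fourRu) (v : ruLattice) : f (ruI v) = ruI (f v) := hf.2.1 v

theorem four_norm {f : Equiv.Perm ruLattice} (hf : f ∈ fourRu) (v : ruLattice) :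
    ruNorm ((f v : ruLattice) : RuVec) = ruNorm (v : RuVec) := hf.2.2 v

theorem coe_ruI (v : ruLattice) : ((ruI v : ruLattice) : RuVec) = gI • (v : RuVec) := rfl

theorem four_re {f : Equiv.Perm ruLattice} (hf : f ∈ fourRu) (v w : ruLattice) :
    (herm (f v : RuVec) (f w : RuVec)).re = (herm (v : RuVec) (w : RuVec)).re := by
  have h1 := ruNorm_add (f v : RuVec) (f w : RuVec)
  have h2 := ruNorm_add (v : RuVec) (w : RuVec)
  have h3 := four_norm hf (v + w)
  rw [four_add hf] at h3
  rw [AddSubgroup.coe_add, AddSubgroup.coe_add] at h3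
  rw [h3, four_norm hf, four_norm hf] at h1
  linarith

/-- elements of `fourRu` preserve the Hermitian product -/
theorem four_herm {f : Equiv.Perm ruLattice} (hf : f ∈ fourRu) (v w : ruLattice) :
    herm (f v : RuVec) (f w : RuVec) = herm (v : RuVec) (w : RuVec) := by
  apply Zsqrtd.ext (four_re hf v w)
  have h := four_re hf (ruI v) w
  rw [four_I hf, coe_ruI, coe_ruI, herm_smul_left, herm_smul_left, gI_mul_re, gI_mul_re] at h
  linarith

/-! ### multiplication by Gaussian integers -/

theorem smul_mem (a : GaussianInt) {x : RuVec} (hx : x ∈ ruLattice) : a • x ∈ ruLattice := by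
  have e : a • x = a.re • x + a.im • (gI • x) := by
    funext q
    simp only [Pi.smul_apply, Pi.add_apply, smul_eq_mul, zsmul_eq_mul]
    ext <;> simp [gI]
  rw [e]
  exact ruLattice.add_mem (ruLattice.zsmul_mem hx _) (ruLattice.zsmul_mem (gI_smul_mem_ruLattice hx) _)

theorem four_zero {f : Equiv.Perm ruLattice} (hf : f ∈ fourRu) : f 0 = 0 := by
  have h := four_add hf 0 0
  rw [add_zero] at h
  exact left_eq_add.1 h

theorem four_neg {f : Equiv.Perm ruLattice} (hf : f ∈ fourRu) (v : ruLattice) : f (-v) = -f v := by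
  have h := four_add hf v (-v)
  rw [add_neg_cancel, four_zero hf] at h
  exact (neg_eq_of_add_eq_zero_right h.symm).symm

/-- `f` as a homomorphism of additive groups -/
def fourHom {f : Equiv.Perm ruLattice} (hf : f ∈ fourRu) : ruLattice →+ ruLattice where
  toFun := f
  map_zero' := four_zero hf
  map_add' := four_add hf

theorem four_zsmul {f : Equiv.Perm ruLattice} (hf : f ∈ fourRu) (n : ℤ) (v : ruLattice) : f (n • v) = n • f v :=
  map_zsmul (fourHom hf) n v

theorem four_smul {f : Equiv.Perm ruLattice} (hf : f ∈ fourRu) (a : GaussianInt) (x : RuVec) (hx : x ∈ ruLattice) :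
    (f ⟨a • x, smul_mem a hx⟩ : RuVec) = a • (f ⟨x, hx⟩ : RuVec) := by
  have e : (⟨a • x, smul_mem a hx⟩ : ruLattice) = a.re • (⟨x, hx⟩ : ruLattice) + a.im • ruI ⟨x, hx⟩ := by
    apply Subtype.ext
    rw [AddSubgroup.coe_add, AddSubgroup.coe_zsmul, AddSubgroup.coe_zsmul, coe_ruI]
    funext q
    simp only [Pi.smul_apply, Pi.add_apply, smul_eq_mul, zsmul_eq_mul]
    ext <;> simp [gI]
  rw [e, four_add hf, four_zsmul hf, four_zsmul hf, four_I hf]
  rw [AddSubgroup.coe_add, AddSubgroup.coe_zsmul, AddSubgroup.coe_zsmul, coe_ruI]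
  funext q
  simp only [Pi.smul_apply, Pi.add_apply, smul_eq_mul, zsmul_eq_mul]
  ext <;> simp [gI]

theorem sum_mem' {ι : Type*} (s : Finset ι) (c : ι → GaussianInt) (b : ι → RuVec) (hb : ∀ j, b j ∈ ruLattice) :
    ∑ j ∈ s, c j • b j ∈ ruLattice := AddSubgroup.sum_mem _ fun j _ => smul_mem _ (hb j)

theorem four_sum {f : Equiv.Perm ruLattice} (hf : f ∈ fourRu) {ι : Type*} (s : Finset ι) (c : ι → GaussianInt)
    (b : ι → RuVec) (hb : ∀ j, b j ∈ ruLattice) :
    (f ⟨∑ j ∈ s, c j • b j, sum_mem' s c b hb⟩ : RuVec) = ∑ j ∈ s, c j • (f ⟨b j, hb j⟩ : RuVec) := by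
  classical
  induction s using Finset.induction_on with
  | empty =>
    have e : (⟨∑ j ∈ (∅ : Finset ι), c j • b j, sum_mem' ∅ c b hb⟩ : ruLattice) = 0 :=
      Subtype.ext (Finset.sum_empty (f := fun j => c j • b j))
    rw [e, four_zero hf, Finset.sum_empty]
    rfl
  | insert a s ha ih =>
    have e : (⟨∑ j ∈ insert a s, c j • b j, sum_mem' (insert a s) c b hb⟩ : ruLattice)
        = ⟨c a • b a, smul_mem _ (hb a)⟩ + ⟨∑ j ∈ s, c j • b j, sum_mem' s c b hb⟩ :=
      Subtype.ext (Finset.sum_insert ha)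
    rw [e, four_add hf, AddSubgroup.coe_add, ih, four_smul hf, Finset.sum_insert ha]

/-! ### the scalars -/

/-- multiplication by `i` as a permutation of the lattice -/
def iPerm : Equiv.Perm ruLattice where
  toFun := ruI
  invFun := fun v => -ruI v
  left_inv := fun v => by
    apply Subtype.ext
    rw [AddSubgroup.coe_neg, coe_ruI, coe_ruI, smul_smul, gI_mul_self, neg_smul, one_smul, neg_neg]
  right_inv := fun v => by
    apply Subtype.ext
    rw [coe_ruI, AddSubgroup.coe_neg, coe_ruI, smul_neg, smul_smul, gI_mul_self, neg_smul, one_smul, neg_neg]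

theorem coe_iPerm (v : ruLattice) : ((iPerm v : ruLattice) : RuVec) = gI • (v : RuVec) := rfl

theorem iPerm_mem : iPerm ∈ fourRu := by
  refine ⟨fun v w => ?_, fun v => ?_, fun v => ?_⟩
  · apply Subtype.ext
    rw [AddSubgroup.coe_add, coe_iPerm, coe_iPerm, coe_iPerm, AddSubgroup.coe_add, smul_add]
  · rfl
  · rw [coe_iPerm, ruNorm_gI_smul]

theorem coe_iPerm_pow (e : ℕ) (v : ruLattice) : (((iPerm ^ e) v : ruLattice) : RuVec) = gI ^ e • (v : RuVec) := by
  induction e with
  | zero => simp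
  | succ e ih => rw [pow_succ', Equiv.Perm.mul_apply, coe_iPerm, ih, smul_smul, pow_succ']

theorem gI_pow_four : gI ^ 4 = 1 := by
  have : gI ^ 4 = (gI * gI) * (gI * gI) := by ring
  rw [this, gI_mul_self]; ring

theorem iPerm_pow_four : iPerm ^ 4 = 1 := by
  apply Equiv.ext
  intro v
  apply Subtype.ext
  rw [coe_iPerm_pow, gI_pow_four, one_smul]
  rfl

/-- `iPerm` commutes with `fourRu` -/
theorem iPerm_comm {f : Equiv.Perm ruLattice} (hf : f ∈ fourRu) : f * iPerm = iPerm * f :=
  Equiv.ext fun v => four_I hf v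

/-! ### finiteness of the shells -/

theorem norm_le_of_ruNorm {x : RuVec} (q : RuIdx) : (x q).norm ≤ ruNorm x :=
  Finset.single_le_sum (f := fun q => (x q).norm) (fun _ _ => gaussian_norm_nonneg _) (Finset.mem_univ q)

theorem abs_re_le (a : GaussianInt) : |a.re| ≤ a.norm := by
  have h : a.norm = a.re * a.re + a.im * a.im := by simp [Zsqrtd.norm]
  rw [h]
  have h1 : 0 ≤ a.im * a.im := mul_self_nonneg _
  have h2 : |a.re| ≤ a.re * a.re := by
    rw [← abs_mul_abs_self a.re]
    rcases eq_or_ne a.re 0 with h0 | h0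
    · simp [h0]
    · have : 1 ≤ |a.re| := Int.one_le_abs h0
      nlinarith
  linarith

theorem abs_im_le (a : GaussianInt) : |a.im| ≤ a.norm := by
  have h : a.norm = a.re * a.re + a.im * a.im := by simp [Zsqrtd.norm]
  rw [h]
  have h1 : 0 ≤ a.re * a.re := mul_self_nonneg _
  have h2 : |a.im| ≤ a.im * a.im := by
    rw [← abs_mul_abs_self a.im]
    rcases eq_or_ne a.im 0 with h0 | h0
    · simp [h0]
    · have : 1 ≤ |a.im| := Int.one_le_abs h0
      nlinarith
  linarith

theorem finite_shell (n : ℤ) : {x : RuVec | ruNorm x = n}.Finite := by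
  have key : {x : RuVec | ruNorm x = n} ⊆ Set.pi Set.univ (fun _ : RuIdx => {a : GaussianInt | |a.re| ≤ n ∧ |a.im| ≤ n}) := by
    intro x hx q _
    have h1 := norm_le_of_ruNorm (x := x) q
    rw [Set.mem_ofPred_eq] at hx
    exact ⟨(abs_re_le _).trans (h1.trans hx.le), (abs_im_le _).trans (h1.trans hx.le)⟩
  refine Set.Finite.subset (Set.Finite.pi fun _ => ?_) key
  have h2 : {a : GaussianInt | |a.re| ≤ n ∧ |a.im| ≤ n} ⊆
      (fun p : ℤ × ℤ => (⟨p.1, p.2⟩ : GaussianInt)) '' (Set.Icc (-n) n ×ˢ Set.Icc (-n) n) := by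
    intro a ha
    exact ⟨(a.re, a.im), ⟨⟨(abs_le.1 ha.1).1, (abs_le.1 ha.1).2⟩, ⟨(abs_le.1 ha.2).1, (abs_le.1 ha.2).2⟩⟩, rfl⟩
  exact Set.Finite.subset (((Set.finite_Icc _ _).prod (Set.finite_Icc _ _)).image _) h2

/-! ### elements from equal Gram matrices -/

theorem herm_comb {ι : Type*} [Fintype ι] (c d : ι → GaussianInt) (b : ι → RuVec) :
    herm (∑ j, c j • b j) (∑ j, d j • b j) = ∑ j, ∑ l, c j * (star (d l) * herm (b j) (b l)) := by
  rw [herm_sum_left]
  apply Finset.sum_congr rfl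
  intro j _
  rw [herm_smul_left, herm_sum_right, Finset.mul_sum]
  apply Finset.sum_congr rfl
  intro l _
  rw [herm_smul_right]

theorem herm_comb_eq {ι : Type*} [Fintype ι] {b f : ι → RuVec}
    (hg : ∀ j l, herm (f j) (f l) = herm (b j) (b l)) (c d : ι → GaussianInt) :
    herm (∑ j, c j • f j) (∑ j, d j • f j) = herm (∑ j, c j • b j) (∑ j, d j • b j) := by
  simp only [herm_comb, hg]

theorem ruNorm_of_herm {x y : RuVec} (h : herm x x = herm y y) : ruNorm x = ruNorm y := by
  rw [← herm_self_re, ← herm_self_re, h]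

theorem comb_sub {ι : Type*} [Fintype ι] (c d : ι → GaussianInt) (b : ι → RuVec) :
    ∑ j, c j • b j - ∑ j, d j • b j = ∑ j, (c j - d j) • b j := by
  rw [← Finset.sum_sub_distrib]
  exact Finset.sum_congr rfl fun j _ => (sub_smul _ _ _).symm

theorem comb_add {ι : Type*} [Fintype ι] (c d : ι → GaussianInt) (b : ι → RuVec) :
    ∑ j, c j • b j + ∑ j, d j • b j = ∑ j, (c j + d j) • b j := by
  rw [← Finset.sum_add_distrib]
  exact Finset.sum_congr rfl fun j _ => (add_smul _ _ _).symm

theorem comb_smul {ι : Type*} [Fintype ι] (a : GaussianInt) (c : ι → GaussianInt) (b : ι → RuVec) :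
    a • ∑ j, c j • b j = ∑ j, (a * c j) • b j := by
  rw [Finset.smul_sum]
  exact Finset.sum_congr rfl fun j _ => smul_smul _ _ _

theorem comb_eq_of_comb_eq {ι : Type*} [Fintype ι] {b f : ι → RuVec}
    (hg : ∀ j l, herm (f j) (f l) = herm (b j) (b l)) {c d : ι → GaussianInt}
    (h : ∑ j, c j • b j = ∑ j, d j • b j) : ∑ j, c j • f j = ∑ j, d j • f j := by
  rw [← sub_eq_zero, comb_sub] at h ⊢
  apply eq_zero_of_ruNorm
  rw [ruNorm_of_herm (herm_comb_eq hg (fun j => c j - d j) (fun j => c j - d j)), h, ruNorm_zero]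

/-- two families with the same Gram matrix, the first spanning: there is an element of `fourRu` mapping the first to
the second. -/
theorem exists_lift {ι : Type*} [Fintype ι] [DecidableEq ι] (b f : ι → RuVec) (hb : ∀ j, b j ∈ ruLattice)
    (hf : ∀ j, f j ∈ ruLattice)
    (hspan : ∀ x ∈ ruLattice, ∃ c : ι → GaussianInt, x = ∑ j, c j • b j)
    (hg : ∀ j l, herm (f j) (f l) = herm (b j) (b l)) :
    ∃ g : Equiv.Perm ruLattice, g ∈ fourRu ∧ ∀ j, ((g ⟨b j, hb j⟩ : ruLattice) : RuVec) = f j := by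
  have hc : ∀ x : ruLattice, ∃ c : ι → GaussianInt, (x : RuVec) = ∑ j, c j • b j := fun x => hspan x x.2
  choose c hc using hc
  let G : ruLattice → ruLattice := fun x => ⟨∑ j, c x j • f j, sum_mem' _ _ _ hf⟩
  have hG : ∀ (x : ruLattice) (d : ι → GaussianInt), (x : RuVec) = ∑ j, d j • b j → (G x : RuVec) = ∑ j, d j • f j := by
    intro x d hd
    exact comb_eq_of_comb_eq hg ((hc x).symm.trans hd)
  have hadd : ∀ v w : ruLattice, G (v + w) = G v + G w := by
    intro v w
    apply Subtype.ext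
    rw [AddSubgroup.coe_add, hG (v + w) (fun j => c v j + c w j) (by rw [AddSubgroup.coe_add, ← comb_add, ← hc, ← hc]),
      hG v (c v) (hc v), hG w (c w) (hc w), comb_add]
  have hI : ∀ v : ruLattice, G (ruI v) = ruI (G v) := by
    intro v
    apply Subtype.ext
    rw [coe_ruI, hG (ruI v) (fun j => gI * c v j) (by rw [coe_ruI, ← comb_smul, ← hc]),
      hG v (c v) (hc v), comb_smul]
  have hN : ∀ v : ruLattice, ruNorm (G v : RuVec) = ruNorm (v : RuVec) := by
    intro v
    rw [hG v (c v) (hc v)]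
    conv_rhs => rw [hc v]
    exact ruNorm_of_herm (herm_comb_eq hg _ _)
  have hinj : Function.Injective G := by
    intro v w h
    have h1 : G (v - w) + G w = G v := by rw [← hadd, sub_add_cancel]
    have h2 : G (v - w) = 0 := by rw [h] at h1; exact add_eq_right.1 h1
    have h3 := hN (v - w)
    rw [h2] at h3
    have h4 : ((v - w : ruLattice) : RuVec) = 0 := eq_zero_of_ruNorm (by rw [← h3]; exact ruNorm_zero)
    have h5 : v - w = 0 := Subtype.ext h4
    exact sub_eq_zero.1 h5
  have hsurj : Function.Surjective G := by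
    intro w
    have hfin : {x : ruLattice | ruNorm (x : RuVec) = ruNorm (w : RuVec)}.Finite :=
      Set.Finite.preimage (Subtype.val_injective.injOn) (finite_shell (ruNorm (w : RuVec)))
    have hmaps : Set.MapsTo G {x : ruLattice | ruNorm (x : RuVec) = ruNorm (w : RuVec)}
        {x : ruLattice | ruNorm (x : RuVec) = ruNorm (w : RuVec)} := by
      intro x hx
      rw [Set.mem_ofPred_eq] at hx ⊢
      rw [hN, hx]
    obtain ⟨x, _, hx⟩ := ((hfin.injOn_iff_bijOn_of_mapsTo hmaps).1 hinj.injOn).surjOn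
      (show w ∈ {x : ruLattice | ruNorm (x : RuVec) = ruNorm (w : RuVec)} from rfl)
    exact ⟨x, hx⟩
  have hbij : Function.Bijective G := ⟨hinj, hsurj⟩
  refine ⟨Equiv.ofBijective G hbij, ⟨hadd, hI, hN⟩, fun j => ?_⟩
  change (G ⟨b j, hb j⟩ : RuVec) = f j
  rw [hG ⟨b j, hb j⟩ (Pi.single j 1)]
  · rw [Finset.sum_eq_single j]
    · rw [Pi.single_eq_same, one_smul]
    · intro l _ hl
      rw [Pi.single_eq_of_ne hl, zero_smul]
    · intro h; exact absurd (Finset.mem_univ j) h
  · rw [Finset.sum_eq_single j]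
    · rw [Pi.single_eq_same, one_smul]
    · intro l _ hl
      rw [Pi.single_eq_of_ne hl, zero_smul]
    · intro h; exact absurd (Finset.mem_univ j) h

end Cfsg.Agent.RuLat
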