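import Cfsg.Agent.RuLat.Code
import Cfsg.Agent.RuLat.LiftData
import Cfsg.Agent.RuLat.Hom

set_option autoImplicit false

/-!
Lifts of the automorphisms `net0 .. net5` of the Rudvalis graph to the lattice, by equality of Gram matrices.
-/

namespace Cfsg.Agent.RuLat

open Cfsg.Spor Cfsg.Agent.SporadicB Cfsg.Agent.Lib.BitNet

/-- the entries (line, exponent, code, scale) are correct -/
noncomputable def okEnt (x : ℕ × ℕ × ℕ × ℕ) : Bool :=
  Nat.ble (Nat.add x.1 1) 4060 && (Nat.beq (packL x.2.1 x.1 planes) x.2.2.1 && Nat.beq (scaleN x.1) x.2.2.2)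

/-- `for all` on lists, reducing well in the kernel -/
noncomputable def allT {α : Type} (l : List α) (f : α → Bool) : Bool :=
  List.rec true (fun a _ ih => cond (f a) ih false) l

theorem allT_spec {α : Type} : ∀ {l : List α} {f : α → Bool}, allT l f = true → ∀ a ∈ l, f a = true
  | [], _, _, a, ha => absurd ha List.not_mem_nil
  | b :: l, f, h, a, ha => by
    have e : allT (b :: l) f = cond (f b) (allT l f) false := rfl
    rw [e] at h
    cases hb : f b with
    | false => rw [hb] at h; exact absurd h Bool.false_ne_true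
    | true =>
      rw [hb] at h
      rcases List.mem_cons.1 ha with rfl | ha
      · exact hb
      · exact allT_spec h a ha

/-- equality of the Gram matrices -/
noncomputable def okGram (l m : List (ℕ × ℕ × ℕ × ℕ)) : Bool :=
  allT (l.zip m) (fun z => allT (l.zip m) (fun w =>
    hermEq z.1.2.2.1 z.1.2.2.2 w.1.2.2.1 w.1.2.2.2 z.2.2.2.1 z.2.2.2.2 w.2.2.2.1 w.2.2.2.2))

theorem okLB : allT LB okEnt = true := by decide +kernel
theorem okL0 : allT L0 okEnt = true := by decide +kernel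
theorem okL1 : allT L1 okEnt = true := by decide +kernel
theorem okL2 : allT L2 okEnt = true := by decide +kernel
theorem okL3 : allT L3 okEnt = true := by decide +kernel
theorem okL4 : allT L4 okEnt = true := by decide +kernel
theorem okL5 : allT L5 okEnt = true := by decide +kernel

theorem okG0 : okGram L0 LB = true := by decide +kernel
theorem okG1 : okGram L1 LB = true := by decide +kernel
theorem okG2 : okGram L2 LB = true := by decide +kernel
theorem okG3 : okGram L3 LB = true := by decide +kernel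
theorem okG4 : okGram L4 LB = true := by decide +kernel
theorem okG5 : okGram L5 LB = true := by decide +kernel

/-- entry `j` of a list -/
def ent (l : List (ℕ × ℕ × ℕ × ℕ)) (j : Fin 28) : ℕ × ℕ × ℕ × ℕ := l.getD j (0, 0, 0, 0)

theorem ent_mem {l : List (ℕ × ℕ × ℕ × ℕ)} (hl : l.length = 28) (j : Fin 28) : ent l j ∈ l := by
  rw [ent, List.getD_eq_getElem _ _ (by rw [hl]; exact j.2)]
  exact List.getElem_mem _

theorem okEnt_lt {x : ℕ × ℕ × ℕ × ℕ} (h : okEnt x = true) : x.1 < 4060 := by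
  rw [okEnt, Bool.and_eq_true] at h
  exact Nat.le_of_ble_eq_true h.1

theorem okEnt_vec {x : ℕ × ℕ × ℕ × ℕ} (h : okEnt x = true) : decv x.2.2.1 x.2.2.2 = gI ^ x.2.1 • vec x.1 := by
  rw [okEnt, Bool.and_eq_true, Bool.and_eq_true] at h
  rw [← Nat.eq_of_beq_eq_true h.2.1, ← Nat.eq_of_beq_eq_true h.2.2, decv_packL]

/-- the basis lines as points of `Fin 4060` -/
def bl (j : Fin 28) : Fin 4060 := ⟨(ent LB j).1, okEnt_lt (allT_spec okLB _ (ent_mem rfl j))⟩

theorem allT_spec2 {α : Type} {l : List α} {f : α → α → Bool} (h : allT l (fun z => allT l (f z)) = true) {a b : α}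
    (ha : a ∈ l) (hb : b ∈ l) : f a b = true := allT_spec (allT_spec h a ha) b hb

theorem zip_mem {l m : List (ℕ × ℕ × ℕ × ℕ)} (hl : l.length = 28) (hm : m.length = 28) (j : Fin 28) :
    (ent l j, ent m j) ∈ l.zip m := by
  have h1 : (j : ℕ) < (l.zip m).length := by rw [List.length_zip, hl, hm]; exact j.2
  have h2 : (l.zip m)[(j : ℕ)] = (ent l j, ent m j) := by
    rw [List.getElem_zip, ent, ent, List.getD_eq_getElem _ _ (by rw [hl]; exact j.2),
      List.getD_eq_getElem _ _ (by rw [hm]; exact j.2)]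
  rw [← h2]
  exact List.getElem_mem _

/-- equality of the Hermitian products of two pairs of entries -/
noncomputable def pairEq (z w : (ℕ × ℕ × ℕ × ℕ) × (ℕ × ℕ × ℕ × ℕ)) : Bool :=
  hermEq z.1.2.2.1 z.1.2.2.2 w.1.2.2.1 w.1.2.2.2 z.2.2.2.1 z.2.2.2.2 w.2.2.2.1 w.2.2.2.2

theorem pairEq_sound {z w : (ℕ × ℕ × ℕ × ℕ) × (ℕ × ℕ × ℕ × ℕ)} (h : pairEq z w = true) :
    herm (decv z.1.2.2.1 z.1.2.2.2) (decv w.1.2.2.1 w.1.2.2.2) =
      herm (decv z.2.2.2.1 z.2.2.2.2) (decv w.2.2.2.1 w.2.2.2.2) := hermEq_sound h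

theorem okGram_pair {l m : List (ℕ × ℕ × ℕ × ℕ)} (h : okGram l m = true) :
    allT (l.zip m) (fun z => allT (l.zip m) (pairEq z)) = true := h

theorem gram_of_ok {l m : List (ℕ × ℕ × ℕ × ℕ)} (hl : l.length = 28) (hm : m.length = 28)
    (h : okGram l m = true) (j k : Fin 28) :
    herm (decv (ent l j).2.2.1 (ent l j).2.2.2) (decv (ent l k).2.2.1 (ent l k).2.2.2) =
      herm (decv (ent m j).2.2.1 (ent m j).2.2.2) (decv (ent m k).2.2.1 (ent m k).2.2.2) :=
  by
  have h1 : pairEq (ent l j, ent m j) (ent l k, ent m k) = true :=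
    allT_spec2 (f := pairEq) (okGram_pair h) (zip_mem hl hm j) (zip_mem hl hm k)
  have h2 := pairEq_sound h1
  dsimp only at h2
  exact h2

theorem exp_LB (j : Fin 28) : (ent LB j).2.1 = 0 := by
  revert j; decide

theorem exists_lift_of_ok (Y : Hyp) (S : Span bl) {l : List (ℕ × ℕ × ℕ × ℕ)} (hl : l.length = 28)
    (ho : allT l okEnt = true) (hg : okGram l LB = true) :
    ∃ g : fourRu, ∀ j : Fin 28, ((Y.hom g (bl j) : Fin 4060) : ℕ) = (ent l j).1 := by
  have hb : ∀ j : Fin 28, decv (ent LB j).2.2.1 (ent LB j).2.2.2 = vec (bl j) := by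
    intro j
    rw [okEnt_vec (allT_spec okLB _ (ent_mem rfl j)), exp_LB, pow_zero, one_smul]
    rfl
  have hf : ∀ j : Fin 28, decv (ent l j).2.2.1 (ent l j).2.2.2 = gI ^ (ent l j).2.1 • vec (ent l j).1 :=
    fun j => okEnt_vec (allT_spec ho _ (ent_mem hl j))
  have hlt : ∀ j : Fin 28, (ent l j).1 < 4060 := fun j => okEnt_lt (allT_spec ho _ (ent_mem hl j))
  obtain ⟨g, hg1, hg2⟩ := exists_lift (fun j => vec (bl j)) (fun j => decv (ent l j).2.2.1 (ent l j).2.2.2)
    (fun j => Y.mem (bl j)) (fun j => by rw [hf]; exact smul_mem _ (Y.mem ⟨_, hlt j⟩)) S.span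
    (fun j k => by rw [gram_of_ok hl rfl hg j k, hb, hb])
  refine ⟨⟨g, hg1⟩, fun j => ?_⟩
  have h := Y.im_unique ⟨g, hg1⟩ (bl j) ⟨(ent l j).1, hlt j⟩ (ent l j).2.1 (by rw [← hf]; exact hg2 j)
  rw [Y.hom_apply, h]

theorem bl0 : bl 0 = RuOrder.b1 := rfl
theorem bl1 : bl 1 = RuOrder.b2 := rfl
theorem bl2 : bl 2 = RuOrder.b3 := rfl
theorem bl3 : bl 3 = RuOrder.b4 := rfl

/-- an automorphism of the graph is determined by the images of the base points -/
theorem eq_of_base {σ τ : Equiv.Perm (Fin 4060)} (hσ : σ ∈ RuOrder.H) (hτ : τ ∈ RuOrder.H)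
    (h1 : σ RuOrder.b1 = τ RuOrder.b1) (h2 : σ RuOrder.b2 = τ RuOrder.b2) (h3 : σ RuOrder.b3 = τ RuOrder.b3)
    (h4 : σ RuOrder.b4 = τ RuOrder.b4) : σ = τ := by
  have key : ∀ b, σ b = τ b → (τ⁻¹ * σ) b = b := by
    intro b hb
    rw [Equiv.Perm.mul_apply, hb]
    exact τ.symm_apply_apply b
  have hm : τ⁻¹ * σ ∈ RuOrder.H4 := by
    refine ⟨⟨⟨⟨RuOrder.H.mul_mem (RuOrder.H.inv_mem hτ) hσ, ?_⟩, ?_⟩, ?_⟩, ?_⟩
    · exact key _ h1
    · exact key _ h2
    · exact key _ h3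
    · exact key _ h4
  have h5 : RuOrder.H4 = ⊥ := Subgroup.eq_bot_of_card_eq _ RuOrder.card_H4
  rw [h5, Subgroup.mem_bot] at hm
  exact (inv_mul_eq_one.1 hm).symm

/-- the network `n` lies in the image of `fourRu` -/
theorem net_mem (Y : Hyp) (S : Span bl) {l : List (ℕ × ℕ × ℕ × ℕ)} (hl : l.length = 28)
    (ho : allT l okEnt = true) (hg : okGram l LB = true) {n : List (ℕ × ℕ)}
    (hn : ∃ h : OkNet 4060 n, perm h ∈ RuOrder.H)
    (h0 : app n 0 = (ent l 0).1 ∧ app n 29 = (ent l 1).1 ∧ app n 580 = (ent l 2).1 ∧ app n 577 = (ent l 3).1) :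
    ∃ h : OkNet 4060 n, perm h ∈ Y.hom.range := by
  obtain ⟨h, hmem⟩ := hn
  obtain ⟨g, hg⟩ := exists_lift_of_ok Y S hl ho hg
  refine ⟨h, g, ?_⟩
  refine eq_of_base (Y.hom_mem g) hmem ?_ ?_ ?_ ?_ <;> apply Fin.ext
  · rw [← bl0, hg 0]; exact h0.1.symm
  · rw [← bl1, hg 1]; exact h0.2.1.symm
  · rw [← bl2, hg 2]; exact h0.2.2.1.symm
  · rw [← bl3, hg 3]; exact h0.2.2.2.symm

theorem onto (Y : Hyp) (S : Span bl) : Y.Onto := by
  have m0 := net_mem Y S rfl okL0 okG0 RuOrder.mem0 (by decide +kernel)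
  have m1 := net_mem Y S rfl okL1 okG1 RuOrder.mem1 (by decide +kernel)
  have m2 := net_mem Y S rfl okL2 okG2 RuOrder.mem2 (by decide +kernel)
  have m3 := net_mem Y S rfl okL3 okG3 RuOrder.mem3 (by decide +kernel)
  have m4 := net_mem Y S rfl okL4 okG4 RuOrder.mem4 (by decide +kernel)
  have m5 := net_mem Y S rfl okL5 okG5 RuOrder.mem5 (by decide +kernel)
  refine RuSimple.le_of_mem ?_ m0 m1 m2 m3 m4 m5
  rintro _ ⟨f, rfl⟩
  exact Y.hom_mem f

theorem final (Y : Hyp) (S : Span bl) :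
    Nat.card ↥(Subgroup.center ↥Cfsg.Spor.fourRu) = 4 ∧ Nat.card Cfsg.Spor.Ru = 145926144000 ∧
      IsSimpleGroup Cfsg.Spor.Ru := Y.result S (onto Y S)

end Cfsg.Agent.RuLat
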