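import Cfsg.Agent.RuLat.Data
import Cfsg.Agent.Ru900.Eq

set_option autoImplicit false
set_option maxRecDepth 100000
set_option exponentiation.threshold 5000

/-!
All 4060 vectors `RuLat.vec i` lie in the lattice `ruLattice` (bit-sliced inner products mod 4 with the dual basis).
-/

namespace Cfsg.Agent.RuLat.Mem

open Cfsg.Spor Cfsg.Agent.Ru900.Coord Cfsg.Agent.Ru900.Pack Cfsg.Agent.Ru900.Data Cfsg.Agent.Ru900.Lat

/-- evaluate `x` first -/
noncomputable def force {α : Type} (x : ℕ) (k : ℕ → α) : α :=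
  @Nat.rec (fun _ => α) (k 0) (fun n _ => k (Nat.succ n)) x

theorem force_eq {α : Type} (x : ℕ) (k : ℕ → α) : force x k = k x := by cases x <;> rfl

/-- entry of lane `i` given by planes -/
def ent (P S i : ℕ) : ℤ := if P.testBit i then (if S.testBit i then -1 else 1) else 0

/-- two-bit counter of lane `i` -/
def val (lo hi i : ℕ) : ℤ := (if lo.testBit i then 1 else 0) + 2 * (if hi.testBit i then 1 else 0)

/-- one step: add `ent P S * n` mod 4 to the counters -/
noncomputable def stp (P S n lo hi : ℕ) (k : ℕ → ℕ → Bool) : Bool :=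
  bif Nat.testBit n 0 then
    force (Nat.xor (Nat.xor hi (Nat.land lo P)) (Nat.land P S)) fun h1 => force (Nat.xor lo P) fun l1 =>
      bif Nat.testBit n 1 then force (Nat.xor h1 P) fun h2 => k l1 h2 else k l1 h1
  else bif Nat.testBit n 1 then force (Nat.xor hi P) fun h2 => k lo h2 else k lo hi

theorem mod_four (n : ℕ) : (n : ℤ) % 4 =
    (if n.testBit 0 then 1 else 0) + 2 * (if n.testBit 1 then 1 else 0) := by
  have h0 : n.testBit 0 = decide (n % 2 = 1) := Nat.testBit_zero n
  have h1 : n.testBit 1 = decide (n / 2 % 2 = 1) := by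
    rw [Nat.testBit_succ, Nat.testBit_zero]
  rw [h0, h1]
  by_cases a : n % 2 = 1 <;> by_cases b : n / 2 % 2 = 1 <;> simp only [a, b, decide_true, decide_false, if_true] <;>
    simp <;> omega

theorem stp_spec (P S n lo hi : ℕ) (k : ℕ → ℕ → Bool) : ∃ lo' hi', stp P S n lo hi k = k lo' hi' ∧
    ∀ i, (4 : ℤ) ∣ val lo' hi' i - (val lo hi i + ent P S i * n) := by
  have key : ∀ (a b : Bool) (d : ℤ), (n : ℤ) % 4 = (if a then 1 else 0) + 2 * (if b then 1 else 0) →
      ∀ (l h p s : Bool),
      (4 : ℤ) ∣ ((if (if a then l ^^ p else l) then 1 else 0) +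
        2 * (if ((if a then (h ^^ (l && p)) ^^ (p && s) else h) ^^ (b && p)) then 1 else 0) : ℤ) -
        (((if l then 1 else 0) + 2 * (if h then 1 else 0) : ℤ) +
          (if p then (if s then -1 else 1) else 0) * n) := by
    intro a b _ hn l h p s
    cases a <;> cases b <;> cases l <;> cases h <;> cases p <;> cases s <;> simp at hn ⊢ <;> omega
  unfold stp
  cases h0 : Nat.testBit n 0 <;> cases h1 : Nat.testBit n 1
  · refine ⟨lo, hi, by simp, fun i => ?_⟩
    have := key false false 0 (by rw [mod_four, h0, h1]) (lo.testBit i) (hi.testBit i) (P.testBit i) (S.testBit i)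
    simpa [val, ent] using this
  · refine ⟨lo, Nat.xor hi P, by simp [force_eq], fun i => ?_⟩
    have := key false true 0 (by rw [mod_four, h0, h1]) (lo.testBit i) (hi.testBit i) (P.testBit i) (S.testBit i)
    have e : (Nat.xor hi P).testBit i = (hi.testBit i ^^ P.testBit i) := Nat.testBit_xor ..
    simpa [val, ent, e] using this
  · refine ⟨Nat.xor lo P, Nat.xor (Nat.xor hi (Nat.land lo P)) (Nat.land P S), by simp [force_eq], fun i => ?_⟩
    have := key true false 0 (by rw [mod_four, h0, h1]) (lo.testBit i) (hi.testBit i) (P.testBit i) (S.testBit i)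
    have e1 : (Nat.xor lo P).testBit i = (lo.testBit i ^^ P.testBit i) := Nat.testBit_xor ..
    have e2 : (Nat.xor (Nat.xor hi (Nat.land lo P)) (Nat.land P S)).testBit i =
        ((hi.testBit i ^^ (lo.testBit i && P.testBit i)) ^^ (P.testBit i && S.testBit i)) := by
      show ((hi ^^^ (lo &&& P)) ^^^ (P &&& S)).testBit i = _
      simp only [Nat.testBit_xor, Nat.testBit_and]
    simpa [val, ent, e1, e2] using this
  · refine ⟨Nat.xor lo P, Nat.xor (Nat.xor (Nat.xor hi (Nat.land lo P)) (Nat.land P S)) P, by simp [force_eq],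
      fun i => ?_⟩
    have := key true true 0 (by rw [mod_four, h0, h1]) (lo.testBit i) (hi.testBit i) (P.testBit i) (S.testBit i)
    have e1 : (Nat.xor lo P).testBit i = (lo.testBit i ^^ P.testBit i) := Nat.testBit_xor ..
    have e2 : (Nat.xor (Nat.xor (Nat.xor hi (Nat.land lo P)) (Nat.land P S)) P).testBit i =
        (((hi.testBit i ^^ (lo.testBit i && P.testBit i)) ^^ (P.testBit i && S.testBit i)) ^^ P.testBit i) := by
      show (((hi ^^^ (lo &&& P)) ^^^ (P &&& S)) ^^^ P).testBit i = _
      simp only [Nat.testBit_xor, Nat.testBit_and]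
    simpa [val, ent, e1, e2] using this

/-- the lanes that are checked -/
def full : ℕ := Nat.xor (Nat.sub (Nat.pow 2 4060) 1) frameMask

/-- all inner products with the code `n` vanish mod 4 -/
noncomputable def go (F : ℕ) (l : List (ℕ × ℕ × ℕ)) : ℕ → ℕ → ℕ → Bool :=
  @List.rec (ℕ × ℕ × ℕ) (fun _ => ℕ → ℕ → ℕ → Bool)
    (fun _ lo hi => Nat.beq (Nat.land (Nat.lor lo hi) F) 0)
    (fun t _ ih n lo hi => force t.1 fun R => force t.2.1 fun I => force t.2.2 fun S =>
      stp R S n lo hi fun lo hi => stp I S (Nat.shiftRight n 4) lo hi fun lo hi =>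
        force (Nat.shiftRight n 8) fun n => ih n lo hi) l

theorem go_spec (F : ℕ) (l : List (ℕ × ℕ × ℕ)) : ∀ n lo hi, go F l n lo hi = true → ∀ i, F.testBit i = true →
    (4 : ℤ) ∣ val lo hi i + ∑ j ∈ Finset.range l.length,
      (ent (l.getD j (0, 0, 0)).1 (l.getD j (0, 0, 0)).2.2 i * dig n (2 * j) +
       ent (l.getD j (0, 0, 0)).2.1 (l.getD j (0, 0, 0)).2.2 i * dig n (2 * j + 1)) := by
  induction l with
  | nil =>
    intro n lo hi h i hF
    have h1 : (lo ||| hi) &&& F = 0 := Nat.eq_of_beq_eq_true h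
    have h2 : ((lo ||| hi) &&& F).testBit i = false := by rw [h1]; exact Nat.zero_testBit _
    rw [Nat.testBit_and, hF, Bool.and_true, Nat.testBit_or, Bool.or_eq_false_iff] at h2
    simp [val, h2.1, h2.2]
  | cons t l ih =>
    intro n lo hi h i hF
    have h' : force t.1 (fun R => force t.2.1 fun I => force t.2.2 fun S =>
      stp R S n lo hi fun lo hi => stp I S (Nat.shiftRight n 4) lo hi fun lo hi =>
        force (Nat.shiftRight n 8) fun n => go F l n lo hi) = true := h
    simp only [force_eq] at h'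
    obtain ⟨lo1, hi1, e1, s1⟩ := stp_spec t.1 t.2.2 n lo hi (fun lo hi => stp t.2.1 t.2.2 (Nat.shiftRight n 4) lo hi
      fun lo hi => go F l (Nat.shiftRight n 8) lo hi)
    rw [e1] at h'
    obtain ⟨lo2, hi2, e2, s2⟩ := stp_spec t.2.1 t.2.2 (Nat.shiftRight n 4) lo1 hi1 (fun lo hi =>
      go F l (Nat.shiftRight n 8) lo hi)
    rw [e2] at h'
    have h3 := ih _ _ _ h' i hF
    have g1 := s1 i
    have g2 := s2 i
    rw [List.length_cons, Finset.sum_range_succ']
    simp only [List.getD_cons_zero, List.getD_cons_succ]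
    have d0 : (4 : ℤ) ∣ (n : ℤ) - dig n (2 * 0) := by
      unfold dig; simp; omega
    have d1 : (4 : ℤ) ∣ (Nat.shiftRight n 4 : ℤ) - dig n (2 * 0 + 1) := by
      have : Nat.shiftRight n 4 = n / 16 := Nat.shiftRight_eq_div_pow n 4
      rw [this]; unfold dig; simp; omega
    have d2 : ∀ q, dig (Nat.shiftRight n 8) q = dig n (q + 2) := by
      intro q
      have : Nat.shiftRight n 8 = n / 16 ^ 2 := by rw [show Nat.shiftRight n 8 = n / 2 ^ 8 from Nat.shiftRight_eq_div_pow n 8]; norm_num
      rw [this]; unfold dig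
      rw [Nat.div_div_eq_div_mul, ← pow_add, add_comm 2 q]
    simp only [d2] at h3
    have e4 : ∀ j, 2 * (j + 1) = 2 * j + 2 := fun j => by ring
    have e5 : ∀ j, 2 * j + 2 + 1 = 2 * j + 1 + 2 := fun j => by ring
    simp only [e4, e5]
    set TT := ∑ j ∈ Finset.range l.length, (ent (l.getD j (0, 0, 0)).1 (l.getD j (0, 0, 0)).2.2 i * (dig n (2 * j + 2) : ℤ) +
       ent (l.getD j (0, 0, 0)).2.1 (l.getD j (0, 0, 0)).2.2 i * (dig n (2 * j + 1 + 2) : ℤ)) with hS
    have m0 := d0.mul_left (ent t.1 t.2.2 i)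
    have m1 := d1.mul_left (ent t.2.1 t.2.2 i)
    have hh := (((h3.sub g2).sub g1).sub m0).sub m1
    have : val lo hi i + (TT + (ent t.1 t.2.2 i * (dig n (2 * 0) : ℤ) + ent t.2.1 t.2.2 i * (dig n (2 * 0 + 1) : ℤ))) =
      (val lo2 hi2 i + TT - (val lo2 hi2 i - (val lo1 hi1 i + ent t.2.1 t.2.2 i * (Nat.shiftRight n 4 : ℤ))) -
        (val lo1 hi1 i - (val lo hi i + ent t.1 t.2.2 i * (n : ℤ))) - ent t.1 t.2.2 i * ((n : ℤ) - dig n (2 * 0)) -
        ent t.2.1 t.2.2 i * ((Nat.shiftRight n 4 : ℤ) - dig n (2 * 0 + 1))) := by ring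
    rw [this]
    exact hh

theorem chk : allL Dc (fun n => go full planes n 0 0) = true := by decide +kernel

theorem chk_len : planes.length = 28 := rfl

/-- frame lines are below 4060 -/
theorem full_bit (i : ℕ) (hi : i < 4060) (h : frameMask.testBit i = false) : full.testBit i = true := by
  have e : full = (2 ^ 4060 - 1) ^^^ frameMask := rfl
  rw [e, Nat.testBit_xor, Nat.testBit_two_pow_sub_one, h]
  simp [hi]

theorem sum_two (m : ℕ) (f : ℕ → ℤ) :
    ∑ q ∈ Finset.range (2 * m), f q = ∑ j ∈ Finset.range m, (f (2 * j) + f (2 * j + 1)) := by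
  induction m with
  | zero => simp
  | succ m ih =>
    rw [show 2 * (m + 1) = 2 * m + 1 + 1 by ring, Finset.sum_range_succ, Finset.sum_range_succ, ih,
      Finset.sum_range_succ]
    ring

/-- real coordinates of the line vectors -/
theorem crd_vec_even (i j : ℕ) (hj : j < 28) :
    crd (RuLat.vec i) (2 * j) = (if frameMask.testBit i then 4 else 1) * ent (pR j) (pS j) i := by
  obtain ⟨n, t, rfl⟩ : ∃ (n : Fin 7) (t : Fin 4), j = 4 * n.val + t.val :=
    ⟨⟨j / 4, by omega⟩, ⟨j % 4, by omega⟩, by simp; omega⟩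
  rw [show 2 * (4 * n.val + t.val) = 8 * n.val + 2 * t.val by ring, crd_re]
  unfold RuLat.vec scale uent cn ent
  by_cases h : frameMask.testBit i = true
  · simp only [h, if_true]
    have : ((4 : GaussianInt) * ⟨if (pR (4 * n.val + t.val)).testBit i then
        (if (pS (4 * n.val + t.val)).testBit i then (-1 : ℤ) else 1) else 0,
        if (pI (4 * n.val + t.val)).testBit i then
        (if (pS (4 * n.val + t.val)).testBit i then (-1 : ℤ) else 1) else 0⟩).re = 4 *
        (if (pR (4 * n.val + t.val)).testBit i then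
        (if (pS (4 * n.val + t.val)).testBit i then (-1 : ℤ) else 1) else 0) := by
      rw [Zsqrtd.re_mul]
      simp
    exact this
  · simp only [h]
    simp

theorem crd_vec_odd (i j : ℕ) (hj : j < 28) :
    crd (RuLat.vec i) (2 * j + 1) = (if frameMask.testBit i then 4 else 1) * ent (pI j) (pS j) i := by
  obtain ⟨n, t, rfl⟩ : ∃ (n : Fin 7) (t : Fin 4), j = 4 * n.val + t.val :=
    ⟨⟨j / 4, by omega⟩, ⟨j % 4, by omega⟩, by simp; omega⟩
  rw [show 2 * (4 * n.val + t.val) + 1 = 8 * n.val + 2 * t.val + 1 by ring, crd_im]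
  unfold RuLat.vec scale uent cn ent
  by_cases h : frameMask.testBit i = true
  · simp only [h, if_true]
    have : ((4 : GaussianInt) * ⟨if (pR (4 * n.val + t.val)).testBit i then
        (if (pS (4 * n.val + t.val)).testBit i then (-1 : ℤ) else 1) else 0,
        if (pI (4 * n.val + t.val)).testBit i then
        (if (pS (4 * n.val + t.val)).testBit i then (-1 : ℤ) else 1) else 0⟩).im = 4 *
        (if (pI (4 * n.val + t.val)).testBit i then
        (if (pS (4 * n.val + t.val)).testBit i then (-1 : ℤ) else 1) else 0) := by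
      rw [Zsqrtd.im_mul]
      simp
    exact this
  · simp only [h]
    simp

/-- inner product with the dual basis -/
theorem rip_eq (i k : ℕ) : rip (RuLat.vec i) (Dv k) = (if frameMask.testBit i then 4 else 1) *
    ∑ j ∈ Finset.range 28, (ent (pR j) (pS j) i * ((dig (Dc.getD k 0) (2 * j) : ℤ) - 8) +
      ent (pI j) (pS j) i * ((dig (Dc.getD k 0) (2 * j + 1) : ℤ) - 8)) := by
  unfold rip
  rw [show (56 : ℕ) = 2 * 28 by rfl, sum_two, Finset.mul_sum]
  refine Finset.sum_congr rfl fun j hj => ?_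
  rw [Finset.mem_range] at hj
  rw [crd_vec_even i j hj, crd_vec_odd i j hj, Dv, crd_vec _ _ (by omega), crd_vec _ _ (by omega)]
  ring

theorem vec_mem_M (i : ℕ) (hi : i < 4060) : RuLat.vec i ∈ M := by
  intro k hk
  rw [rip_eq]
  by_cases hf : frameMask.testBit i = true
  · rw [if_pos hf]
    exact dvd_mul_right _ _
  · rw [if_neg hf, one_mul]
    have hf' : frameMask.testBit i = false := by simpa using hf
    have h := allL_spec chk (Dc.getD k 0) (getD_mem (by rw [len_D]; exact hk))
    have h1 := go_spec full planes _ _ _ h i (full_bit i hi hf')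
    rw [chk_len] at h1
    have h2 : val 0 0 i = 0 := by simp [val]
    rw [h2, zero_add] at h1
    have e : ∑ j ∈ Finset.range 28, (ent (pR j) (pS j) i * ((dig (Dc.getD k 0) (2 * j) : ℤ) - 8) +
        ent (pI j) (pS j) i * ((dig (Dc.getD k 0) (2 * j + 1) : ℤ) - 8)) =
        ∑ j ∈ Finset.range 28,
        (ent (planes.getD j (0, 0, 0)).1 (planes.getD j (0, 0, 0)).2.2 i * dig (Dc.getD k 0) (2 * j) +
         ent (planes.getD j (0, 0, 0)).2.1 (planes.getD j (0, 0, 0)).2.2 i * dig (Dc.getD k 0) (2 * j + 1)) -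
        8 * ∑ j ∈ Finset.range 28, (ent (pR j) (pS j) i + ent (pI j) (pS j) i) := by
      rw [Finset.mul_sum, ← Finset.sum_sub_distrib]
      refine Finset.sum_congr rfl fun j _ => ?_
      unfold pR pI pS
      ring
    rw [e]
    exact h1.sub (Dvd.intro (2 * ∑ j ∈ Finset.range 28, (ent (pR j) (pS j) i + ent (pI j) (pS j) i)) (by ring))

/-- all 4060 line vectors lie in the lattice -/
theorem vec_mem (i : ℕ) (hi : i < 4060) : RuLat.vec i ∈ ruLattice := by
  rw [Cfsg.Agent.Ru900.Eq.ruLattice_eq]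
  exact vec_mem_M i hi

end Cfsg.Agent.RuLat.Mem
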