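import Cfsg.Agent.RuLat.OrthDef

set_option autoImplicit false
set_option maxRecDepth 100000
set_option exponentiation.threshold 5000

/-!
Orthogonality of the 4060 lines is the Rudvalis graph of `RuData`.
-/

namespace Cfsg.Agent.RuLat

open Cfsg.Spor Cfsg.Agent.SporadicB

theorem sum_getD {α M : Type*} [AddCommMonoid M] (d : α) (F : α → M) : ∀ l : List α,
    ∑ p ∈ Finset.range l.length, F (l.getD p d) = (l.map F).sum
  | [] => by simp
  | a :: l => by
    rw [List.length_cons, Finset.sum_range_succ', List.map_cons, List.sum_cons, ← sum_getD d F l, add_comm]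
    rfl

theorem planes_length : planes.length = 28 := rfl

theorem star_scale (i : ℕ) : star (scale i) = scale i := by
  rw [scale_eq, star_natCast]

theorem scale_ne (i : ℕ) : scale i ≠ 0 := by
  unfold scale
  cases Nat.testBit frameMask i <;> decide

theorem herm_vec (v w : ℕ) : herm (vec v) (vec w) =
    scale v * scale w * ⟨(planes.map (fun P => reP P v w)).sum, (planes.map (fun P => imP P v w)).sum⟩ := by
  have e : herm (vec v) (vec w) = scale v * scale w * ∑ p ∈ Finset.range 28, uent v p * star (uent w p) := by
    rw [herm, ← sum_cn (fun p => uent v p * star (uent w p)), Finset.mul_sum]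
    apply Finset.sum_congr rfl
    intro q _
    rw [vec, vec, star_mul, star_scale]
    ring
  rw [e]
  have e2 : ∑ p ∈ Finset.range 28, uent v p * star (uent w p) =
      ⟨(planes.map (fun P => reP P v w)).sum, (planes.map (fun P => imP P v w)).sum⟩ := by
    apply Zsqrtd.ext
    · rw [sum_re, ← sum_getD (0, 0, 0), planes_length]
      rfl
    · rw [sum_im, ← sum_getD (0, 0, 0), planes_length]
      rfl
  rw [e2]

theorem abs_P (P : ℕ × ℕ × ℕ) (v w : ℕ) (h : ¬ (P.1.testBit v = true ∧ P.2.1.testBit v = true)) :
    |reP P v w| ≤ 1 ∧ |imP P v w| ≤ 1 := by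
  unfold reP imP uentP
  cases h1 : P.1.testBit v <;> cases h2 : P.2.1.testBit v
  · cases P.2.2.testBit v <;> cases P.1.testBit w <;> cases P.2.1.testBit w <;> cases P.2.2.testBit w <;> decide
  · cases P.2.2.testBit v <;> cases P.1.testBit w <;> cases P.2.1.testBit w <;> cases P.2.2.testBit w <;> decide
  · cases P.2.2.testBit v <;> cases P.1.testBit w <;> cases P.2.1.testBit w <;> cases P.2.2.testBit w <;> decide
  · exact absurd ⟨h1, h2⟩ h

theorem abs_sum_le {α : Type*} (F : α → ℤ) : ∀ l : List α, (∀ a ∈ l, |F a| ≤ 1) → |(l.map F).sum| ≤ l.length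
  | [], _ => by simp
  | a :: l, h => by
    rw [List.map_cons, List.sum_cons, List.length_cons]
    have h1 := h a List.mem_cons_self
    have h2 := abs_sum_le F l (fun b hb => h b (List.mem_cons_of_mem _ hb))
    calc |F a + (l.map F).sum| ≤ |F a| + |(l.map F).sum| := abs_add_le _ _
      _ ≤ 1 + l.length := add_le_add h1 h2
      _ = ((l.length + 1 : ℕ) : ℤ) := by push_cast; ring

theorem disj_mem (v : ℕ) : ∀ P ∈ planes, ¬ (P.1.testBit v = true ∧ P.2.1.testBit v = true) := by
  rintro P hP ⟨h1, h2⟩
  have h3 := List.all_eq_true.1 disj _ hP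
  have h4 : P.1 &&& P.2.1 = 0 := Nat.eq_of_beq_eq_true h3
  have h5 : (P.1 &&& P.2.1).testBit v = true := by
    rw [Nat.testBit_land, h1, h2]; rfl
  rw [h4, Nat.zero_testBit] at h5
  exact Bool.false_ne_true h5

theorem val5_zero (w : ℕ) : val5 0 0 0 0 0 w = 0 := by
  have : B 0 w = 0 := by
    unfold B
    rw [Nat.zero_testBit]
    rfl
  unfold val5
  rw [this]
  rfl

theorem orth_of_okRow {v w : ℕ} (hw : w < 4060) (h : okRow v = true) :
    herm (vec v) (vec w) = 0 ↔ (RuData.row v).testBit w = true := by
  have h1 : nonOrth v planes 0 0 0 0 0 0 0 0 0 0 ^^^ RuData.row v = ones := Nat.eq_of_beq_eq_true h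
  have h2 : (nonOrth v planes 0 0 0 0 0 0 0 0 0 0 ^^^ RuData.row v).testBit w = true := by
    rw [h1]; exact testBit_ones hw
  rw [Nat.testBit_xor] at h2
  have h3 := nonOrth_spec (v := v) hw planes (disj_mem v) 0 0 0 0 0 0 0 0 0 0
  rw [val5_zero, zero_add, zero_add] at h3
  have hr := abs_sum_le (fun P => reP P v w) planes (fun P hP => (abs_P P v w (disj_mem v P hP)).1)
  have hi := abs_sum_le (fun P => imP P v w) planes (fun P hP => (abs_P P v w (disj_mem v P hP)).2)
  rw [planes_length] at hr hi
  have e : herm (vec v) (vec w) = 0 ↔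
      ((planes.map (fun P => reP P v w)).sum = 0 ∧ (planes.map (fun P => imP P v w)).sum = 0) := by
    rw [herm_vec, mul_eq_zero, mul_eq_zero]
    constructor
    · rintro ((h | h) | h)
      · exact absurd h (scale_ne v)
      · exact absurd h (scale_ne w)
      · exact ⟨congrArg Zsqrtd.re h, congrArg Zsqrtd.im h⟩
    · rintro ⟨h, h'⟩
      right
      exact Zsqrtd.ext h h'
  rw [e]
  have hm : ∀ x : ℤ, |x| ≤ ((28 : ℕ) : ℤ) → (x = 0 ↔ x % 32 = 0) := by
    intro x hx
    rw [abs_le] at hx
    omega
  rw [hm _ hr, hm _ hi]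
  rw [← not_iff_not] at h3
  rw [not_not] at h3
  rw [← h3]
  have h4 : ∀ a b : Bool, (a ^^ b) = true → (¬ a = true ↔ b = true) := by decide
  exact h4 _ _ h2

theorem rows0 : okRows 0 410 = true := by decide +kernel
theorem rows1 : okRows 410 410 = true := by decide +kernel
theorem rows2 : okRows 820 410 = true := by decide +kernel
theorem rows3 : okRows 1230 410 = true := by decide +kernel
theorem rows4 : okRows 1640 410 = true := by decide +kernel
theorem rows5 : okRows 2050 410 = true := by decide +kernel
theorem rows6 : okRows 2460 410 = true := by decide +kernel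
theorem rows7 : okRows 2870 410 = true := by decide +kernel
theorem rows8 : okRows 3280 410 = true := by decide +kernel
theorem rows9 : okRows 3690 370 = true := by decide +kernel

theorem okRow_all {v : ℕ} (hv : v < 4060) : okRow v = true := by
  by_cases h1 : v < 410
  · exact okRows_spec rows0 v (by omega) (by omega)
  by_cases h2 : v < 820
  · exact okRows_spec rows1 v (by omega) (by omega)
  by_cases h3 : v < 1230
  · exact okRows_spec rows2 v (by omega) (by omega)
  by_cases h4 : v < 1640
  · exact okRows_spec rows3 v (by omega) (by omega)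
  by_cases h5 : v < 2050
  · exact okRows_spec rows4 v (by omega) (by omega)
  by_cases h6 : v < 2460
  · exact okRows_spec rows5 v (by omega) (by omega)
  by_cases h7 : v < 2870
  · exact okRows_spec rows6 v (by omega) (by omega)
  by_cases h8 : v < 3280
  · exact okRows_spec rows7 v (by omega) (by omega)
  by_cases h9 : v < 3690
  · exact okRows_spec rows8 v (by omega) (by omega)
  · exact okRows_spec rows9 v (by omega) (by omega)

/-- orthogonality of the lines is the Rudvalis graph -/
theorem orth_iff (v w : Fin 4060) : herm (vec v) (vec w) = 0 ↔ (RuData.row v).testBit w = true :=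
  orth_of_okRow w.2 (okRow_all v.2)

end Cfsg.Agent.RuLat
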