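import Cfsg.Agent.RuLat.Code
import Cfsg.Agent.SporadicB.RuData

set_option autoImplicit false

/-!
Bit-sliced computation of all Hermitian products of one line with the 4060 lines, in two's complement modulo 32.
-/

namespace Cfsg.Agent.RuLat

open Cfsg.Spor

/-- all points -/
def ones : ℕ := 2 ^ 4060 - 1

/-- one ripple step: continuation gets the sum plane and the carry plane -/
def fa (c d carry : ℕ) (k : ℕ → ℕ → ℕ) : ℕ :=
  k (Nat.xor (Nat.xor c d) carry) (Nat.lor (Nat.land c d) (Nat.land carry (Nat.xor c d)))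

/-- add `nz - 2 ng` modulo 32 to the five planes, then continue -/
def add5 (c0 c1 c2 c3 c4 nz ng : ℕ) (k : ℕ → ℕ → ℕ → ℕ → ℕ → ℕ) : ℕ :=
  fa c1 ng (Nat.land c0 nz) fun s1 k1 =>
  fa c2 ng k1 fun s2 k2 =>
  fa c3 ng k2 fun s3 k3 =>
  k (Nat.xor c0 nz) s1 s2 s3 (Nat.xor (Nat.xor c4 ng) k3)

/-- the points whose Hermitian product with `v` does not vanish -/
noncomputable def nonOrth (v : ℕ) (l : List (ℕ × ℕ × ℕ)) :
    ℕ → ℕ → ℕ → ℕ → ℕ → ℕ → ℕ → ℕ → ℕ → ℕ → ℕ :=
  List.rec (fun r0 r1 r2 r3 r4 i0 i1 i2 i3 i4 =>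
      Nat.lor (Nat.lor (Nat.lor (Nat.lor r0 r1) (Nat.lor r2 r3)) (Nat.lor r4 i0))
        (Nat.lor (Nat.lor i1 i2) (Nat.lor i3 i4)))
    (fun P _ ih r0 r1 r2 r3 r4 i0 i1 i2 i3 i4 =>
      cond (Nat.testBit P.1 v)
        (add5 r0 r1 r2 r3 r4 P.1 (Nat.land P.1 (cond (Nat.testBit P.2.2 v) (Nat.xor P.2.2 ones) P.2.2))
          fun r0 r1 r2 r3 r4 =>
        add5 i0 i1 i2 i3 i4 P.2.1 (Nat.land P.2.1 (cond (Nat.testBit P.2.2 v) P.2.2 (Nat.xor P.2.2 ones)))
          fun i0 i1 i2 i3 i4 => ih r0 r1 r2 r3 r4 i0 i1 i2 i3 i4)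
        (cond (Nat.testBit P.2.1 v)
          (add5 r0 r1 r2 r3 r4 P.2.1 (Nat.land P.2.1 (cond (Nat.testBit P.2.2 v) (Nat.xor P.2.2 ones) P.2.2))
            fun r0 r1 r2 r3 r4 =>
          add5 i0 i1 i2 i3 i4 P.1 (Nat.land P.1 (cond (Nat.testBit P.2.2 v) (Nat.xor P.2.2 ones) P.2.2))
            fun i0 i1 i2 i3 i4 => ih r0 r1 r2 r3 r4 i0 i1 i2 i3 i4)
          (ih r0 r1 r2 r3 r4 i0 i1 i2 i3 i4))) l

/-- check of the row of `v` -/
noncomputable def okRow (v : ℕ) : Bool :=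
  Nat.beq (Nat.xor (nonOrth v planes 0 0 0 0 0 0 0 0 0 0) (SporadicB.RuData.row v)) ones

/-- check of the rows `lo .. lo + n - 1` -/
noncomputable def okRows (lo n : ℕ) : Bool :=
  Nat.rec true (fun k ih => cond (okRow (Nat.add lo k)) ih false) n

theorem okRows_spec {lo : ℕ} : ∀ {n : ℕ}, okRows lo n = true → ∀ v, lo ≤ v → v < lo + n → okRow v = true
  | 0, _, v, h1, h2 => absurd h2 (by omega)
  | n + 1, h, v, h1, h2 => by
    have e : okRows lo (n + 1) = cond (okRow (lo + n)) (okRows lo n) false := rfl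
    rw [e] at h
    cases hb : okRow (lo + n) with
    | false => rw [hb] at h; exact absurd h Bool.false_ne_true
    | true =>
      rw [hb] at h
      by_cases h3 : v = lo + n
      · rw [h3]; exact hb
      · exact okRows_spec h v h1 (by omega)

/-! ### soundness -/

/-- the bit of a plane as an integer -/
def B (x w : ℕ) : ℤ := cond (x.testBit w) 1 0

/-- the value of five planes at a point -/
def val5 (c0 c1 c2 c3 c4 w : ℕ) : ℤ := B c0 w + 2 * B c1 w + 4 * B c2 w + 8 * B c3 w + 16 * B c4 w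

theorem add5_spec (c0 c1 c2 c3 c4 nz ng : ℕ) (k : ℕ → ℕ → ℕ → ℕ → ℕ → ℕ) :
    ∃ s0 s1 s2 s3 s4, add5 c0 c1 c2 c3 c4 nz ng k = k s0 s1 s2 s3 s4 ∧
      ∀ w, (val5 s0 s1 s2 s3 s4 w - (val5 c0 c1 c2 c3 c4 w + (B nz w - 2 * B ng w))) % 32 = 0 := by
  refine ⟨_, _, _, _, _, rfl, fun w => ?_⟩
  have hx : ∀ a b : ℕ, (Nat.xor a b).testBit w = (a.testBit w ^^ b.testBit w) := fun a b => Nat.testBit_xor _ _ _
  have ha : ∀ a b : ℕ, (Nat.land a b).testBit w = (a.testBit w && b.testBit w) := fun a b => Nat.testBit_and _ _ _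
  have ho : ∀ a b : ℕ, (Nat.lor a b).testBit w = (a.testBit w || b.testBit w) := fun a b => Nat.testBit_or _ _ _
  simp only [val5, B, hx, ha, ho]
  generalize c0.testBit w = x0
  generalize c1.testBit w = x1
  generalize c2.testBit w = x2
  generalize c3.testBit w = x3
  generalize c4.testBit w = x4
  generalize nz.testBit w = y0
  generalize ng.testBit w = y1
  revert x0 x1 x2 x3 x4 y0 y1
  decide

/-- the entry given by a plane triple -/
def uentP (P : ℕ × ℕ × ℕ) (i : ℕ) : GaussianInt :=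
  let s : ℤ := if P.2.2.testBit i then -1 else 1
  ⟨if P.1.testBit i then s else 0, if P.2.1.testBit i then s else 0⟩

theorem uent_eq (i p : ℕ) : uent i p = uentP (planes.getD p (0, 0, 0)) i := rfl

theorem testBit_ones {w : ℕ} (hw : w < 4060) : ones.testBit w = true := by
  rw [ones, Nat.testBit_two_pow_sub_one]
  simpa using hw

/-- the product of two entries, real part -/
def reP (P : ℕ × ℕ × ℕ) (v w : ℕ) : ℤ := (uentP P v * star (uentP P w)).re

/-- the product of two entries, imaginary part -/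
def imP (P : ℕ × ℕ × ℕ) (v w : ℕ) : ℤ := (uentP P v * star (uentP P w)).im

theorem testBit_base (w r0 r1 r2 r3 r4 i0 i1 i2 i3 i4 : ℕ) :
    (Nat.lor (Nat.lor (Nat.lor (Nat.lor r0 r1) (Nat.lor r2 r3)) (Nat.lor r4 i0))
        (Nat.lor (Nat.lor i1 i2) (Nat.lor i3 i4))).testBit w = true ↔
      ¬ (val5 r0 r1 r2 r3 r4 w % 32 = 0 ∧ val5 i0 i1 i2 i3 i4 w % 32 = 0) := by
  have ho : ∀ a b : ℕ, (Nat.lor a b).testBit w = (a.testBit w || b.testBit w) := fun a b => Nat.testBit_or _ _ _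
  simp only [ho, val5, B]
  have key : ∀ x0 x1 x2 x3 x4 : Bool, ((cond x0 1 0 + 2 * cond x1 1 0 + 4 * cond x2 1 0 + 8 * cond x3 1 0 +
      16 * cond x4 1 0 : ℤ) % 32 = 0 ↔ (x0 || x1 || x2 || x3 || x4) = false) := by decide
  rw [key, key]
  generalize r0.testBit w = x0
  generalize r1.testBit w = x1
  generalize r2.testBit w = x2
  generalize r3.testBit w = x3
  generalize r4.testBit w = x4
  generalize i0.testBit w = y0
  generalize i1.testBit w = y1
  generalize i2.testBit w = y2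
  generalize i3.testBit w = y3
  generalize i4.testBit w = y4
  revert x0 x1 x2 x3 x4 y0 y1 y2 y3 y4
  decide

theorem re_real {P : ℕ × ℕ × ℕ} {v w : ℕ} (hw : w < 4060) (h1 : P.1.testBit v = true) (h2 : P.2.1.testBit v = false) :
    reP P v w = B P.1 w - 2 * B (Nat.land P.1 (cond (Nat.testBit P.2.2 v) (Nat.xor P.2.2 ones) P.2.2)) w ∧
    imP P v w = B P.2.1 w - 2 * B (Nat.land P.2.1 (cond (Nat.testBit P.2.2 v) P.2.2 (Nat.xor P.2.2 ones))) w := by
  have hx : (Nat.xor P.2.2 ones).testBit w = !(P.2.2.testBit w) := by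
    have : (Nat.xor P.2.2 ones).testBit w = (P.2.2.testBit w ^^ ones.testBit w) := Nat.testBit_xor _ _ _
    rw [this, testBit_ones hw, Bool.xor_true]
  have ha : ∀ a b : ℕ, (Nat.land a b).testBit w = (a.testBit w && b.testBit w) := fun a b => Nat.testBit_and _ _ _
  unfold reP imP uentP B
  rw [ha, ha, h1, h2]
  cases P.2.2.testBit v <;> simp only [cond_true, cond_false, hx] <;> cases P.1.testBit w <;>
    cases P.2.1.testBit w <;> cases P.2.2.testBit w <;> decide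

theorem re_imag {P : ℕ × ℕ × ℕ} {v w : ℕ} (hw : w < 4060) (h1 : P.1.testBit v = false) (h2 : P.2.1.testBit v = true) :
    reP P v w = B P.2.1 w - 2 * B (Nat.land P.2.1 (cond (Nat.testBit P.2.2 v) (Nat.xor P.2.2 ones) P.2.2)) w ∧
    imP P v w = B P.1 w - 2 * B (Nat.land P.1 (cond (Nat.testBit P.2.2 v) (Nat.xor P.2.2 ones) P.2.2)) w := by
  have hx : (Nat.xor P.2.2 ones).testBit w = !(P.2.2.testBit w) := by
    have : (Nat.xor P.2.2 ones).testBit w = (P.2.2.testBit w ^^ ones.testBit w) := Nat.testBit_xor _ _ _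
    rw [this, testBit_ones hw, Bool.xor_true]
  have ha : ∀ a b : ℕ, (Nat.land a b).testBit w = (a.testBit w && b.testBit w) := fun a b => Nat.testBit_and _ _ _
  unfold reP imP uentP B
  rw [ha, ha, h1, h2]
  cases P.2.2.testBit v <;> simp only [cond_true, cond_false, hx] <;> cases P.1.testBit w <;>
    cases P.2.1.testBit w <;> cases P.2.2.testBit w <;> decide

theorem re_zero {P : ℕ × ℕ × ℕ} {v w : ℕ} (h1 : P.1.testBit v = false) (h2 : P.2.1.testBit v = false) :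
    reP P v w = 0 ∧ imP P v w = 0 := by
  have : uentP P v = 0 := by
    unfold uentP
    rw [h1, h2]
    rfl
  unfold reP imP
  rw [this, zero_mul]
  exact ⟨rfl, rfl⟩

theorem nonOrth_spec {v w : ℕ} (hw : w < 4060) : ∀ (l : List (ℕ × ℕ × ℕ)),
    (∀ P ∈ l, ¬ (P.1.testBit v = true ∧ P.2.1.testBit v = true)) → ∀ (r0 r1 r2 r3 r4 i0 i1 i2 i3 i4 : ℕ),
    ((nonOrth v l r0 r1 r2 r3 r4 i0 i1 i2 i3 i4).testBit w = true ↔
      ¬ ((val5 r0 r1 r2 r3 r4 w + (l.map (fun P => reP P v w)).sum) % 32 = 0 ∧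
        (val5 i0 i1 i2 i3 i4 w + (l.map (fun P => imP P v w)).sum) % 32 = 0))
  | [], _, r0, r1, r2, r3, r4, i0, i1, i2, i3, i4 => by
    rw [List.map_nil, List.map_nil, List.sum_nil, add_zero, add_zero]
    exact testBit_base w r0 r1 r2 r3 r4 i0 i1 i2 i3 i4
  | P :: l, hl, r0, r1, r2, r3, r4, i0, i1, i2, i3, i4 => by
    have hl' : ∀ P ∈ l, ¬ (P.1.testBit v = true ∧ P.2.1.testBit v = true) :=
      fun Q hQ => hl Q (List.mem_cons_of_mem _ hQ)
    have hP := hl P List.mem_cons_self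
    rw [List.map_cons, List.map_cons, List.sum_cons, List.sum_cons]
    cases h1 : P.1.testBit v with
    | true =>
      have h2 : P.2.1.testBit v = false := by
        cases h : P.2.1.testBit v with
        | true => exact absurd ⟨h1, h⟩ hP
        | false => rfl
      have e : nonOrth v (P :: l) r0 r1 r2 r3 r4 i0 i1 i2 i3 i4 =
        (add5 r0 r1 r2 r3 r4 P.1 (Nat.land P.1 (cond (Nat.testBit P.2.2 v) (Nat.xor P.2.2 ones) P.2.2))
          fun r0 r1 r2 r3 r4 =>
        add5 i0 i1 i2 i3 i4 P.2.1 (Nat.land P.2.1 (cond (Nat.testBit P.2.2 v) P.2.2 (Nat.xor P.2.2 ones)))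
          fun i0 i1 i2 i3 i4 => nonOrth v l r0 r1 r2 r3 r4 i0 i1 i2 i3 i4) := by
        change cond (Nat.testBit P.1 v) _ _ = _
        rw [h1, cond_true]
        rfl
      obtain ⟨hr, hi⟩ := re_real (P := P) hw h1 h2
      rw [e]
      obtain ⟨s0, s1, s2, s3, s4, e1, hs⟩ := add5_spec r0 r1 r2 r3 r4 P.1
        (Nat.land P.1 (cond (Nat.testBit P.2.2 v) (Nat.xor P.2.2 ones) P.2.2)) (fun r0 r1 r2 r3 r4 =>
        add5 i0 i1 i2 i3 i4 P.2.1 (Nat.land P.2.1 (cond (Nat.testBit P.2.2 v) P.2.2 (Nat.xor P.2.2 ones)))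
          fun i0 i1 i2 i3 i4 => nonOrth v l r0 r1 r2 r3 r4 i0 i1 i2 i3 i4)
      rw [e1]
      obtain ⟨t0, t1, t2, t3, t4, e2, ht⟩ := add5_spec i0 i1 i2 i3 i4 P.2.1
        (Nat.land P.2.1 (cond (Nat.testBit P.2.2 v) P.2.2 (Nat.xor P.2.2 ones)))
        (fun i0 i1 i2 i3 i4 => nonOrth v l s0 s1 s2 s3 s4 i0 i1 i2 i3 i4)
      rw [e2, nonOrth_spec hw l hl']
      have h3 := hs w
      have h4 := ht w
      rw [← hr] at h3
      rw [← hi] at h4
      apply not_congr
      constructor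
      · rintro ⟨h5, h6⟩; constructor <;> omega
      · rintro ⟨h5, h6⟩; constructor <;> omega
    | false =>
      cases h2 : P.2.1.testBit v with
      | true =>
        have e : nonOrth v (P :: l) r0 r1 r2 r3 r4 i0 i1 i2 i3 i4 =
          (add5 r0 r1 r2 r3 r4 P.2.1 (Nat.land P.2.1 (cond (Nat.testBit P.2.2 v) (Nat.xor P.2.2 ones) P.2.2))
            fun r0 r1 r2 r3 r4 =>
          add5 i0 i1 i2 i3 i4 P.1 (Nat.land P.1 (cond (Nat.testBit P.2.2 v) (Nat.xor P.2.2 ones) P.2.2))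
            fun i0 i1 i2 i3 i4 => nonOrth v l r0 r1 r2 r3 r4 i0 i1 i2 i3 i4) := by
          change cond (Nat.testBit P.1 v) _ (cond (Nat.testBit P.2.1 v) _ _) = _
          rw [h1, h2, cond_true, cond_false]
          rfl
        obtain ⟨hr, hi⟩ := re_imag (P := P) hw h1 h2
        rw [e]
        obtain ⟨s0, s1, s2, s3, s4, e1, hs⟩ := add5_spec r0 r1 r2 r3 r4 P.2.1
          (Nat.land P.2.1 (cond (Nat.testBit P.2.2 v) (Nat.xor P.2.2 ones) P.2.2)) (fun r0 r1 r2 r3 r4 =>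
          add5 i0 i1 i2 i3 i4 P.1 (Nat.land P.1 (cond (Nat.testBit P.2.2 v) (Nat.xor P.2.2 ones) P.2.2))
            fun i0 i1 i2 i3 i4 => nonOrth v l r0 r1 r2 r3 r4 i0 i1 i2 i3 i4)
        rw [e1]
        obtain ⟨t0, t1, t2, t3, t4, e2, ht⟩ := add5_spec i0 i1 i2 i3 i4 P.1
          (Nat.land P.1 (cond (Nat.testBit P.2.2 v) (Nat.xor P.2.2 ones) P.2.2))
          (fun i0 i1 i2 i3 i4 => nonOrth v l s0 s1 s2 s3 s4 i0 i1 i2 i3 i4)
        rw [e2, nonOrth_spec hw l hl']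
        have h3 := hs w
        have h4 := ht w
        rw [← hr] at h3
        rw [← hi] at h4
        apply not_congr
        constructor
        · rintro ⟨h5, h6⟩; constructor <;> omega
        · rintro ⟨h5, h6⟩; constructor <;> omega
      | false =>
        have e : nonOrth v (P :: l) r0 r1 r2 r3 r4 i0 i1 i2 i3 i4 = nonOrth v l r0 r1 r2 r3 r4 i0 i1 i2 i3 i4 := by
          change cond (Nat.testBit P.1 v) _ (cond (Nat.testBit P.2.1 v) _ _) = _
          rw [h1, h2, cond_false, cond_false]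
          rfl
        obtain ⟨hr, hi⟩ := re_zero (w := w) h1 h2
        rw [e, nonOrth_spec hw l hl', hr, hi, zero_add, zero_add]

end Cfsg.Agent.RuLat
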