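import Cfsg.Agent.SporadicB.RuOrder
import Cfsg.Agent.SporRec.R3.Search

/-! Two facts about the Rudvalis graph on 4060 points: different points have different neighbourhoods, and
any two points have a common non-neighbour. -/

set_option autoImplicit false
set_option maxRecDepth 100000
set_option exponentiation.threshold 5000

namespace Cfsg.Agent.RuLat.Rows

open Cfsg.Agent.SporRec.R3.Kernel Cfsg.Agent.SporRec.R3.Search
open Cfsg.Agent.SporadicB Cfsg.Agent.SporadicB.RuData Cfsg.Agent.SporadicB.RuOrder Cfsg.Agent.Lib.BitNet

/-- all 4060 points -/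
noncomputable def FM : ℕ := Nat.sub (Nat.pow 2 4060) 1

theorem testBit_FM (k : ℕ) : FM.testBit k = true ↔ k < 4060 := by
  change (2 ^ 4060 - 1).testBit k = true ↔ _
  rw [Nat.testBit_two_pow_sub_one, decide_eq_true_eq]

theorem chk_dist : force FM (fun M => force (row 0) fun r => allB (fun j =>
    Bool.rec (Bool.rec true false (Nat.beq (Nat.land (Nat.xor r (row j)) M) 0)) true (Nat.beq j 0)) 4060) = true := by
  decide +kernel

theorem chk_conn : force FM (fun M => force (row 0) fun r => allB (fun j =>
    Bool.rec true false (Nat.beq (Nat.land (Nat.lor r (row j)) M) M)) 4060) = true := by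
  decide +kernel

theorem exists_diff {m : ℕ} (h : Nat.land m FM ≠ 0) : ∃ k : Fin 4060, m.testBit k = true := by
  by_contra hc
  push Not at hc
  apply h
  apply Nat.eq_of_testBit_eq
  intro i
  have e : (Nat.land m FM).testBit i = (m.testBit i && FM.testBit i) := Nat.testBit_and m FM i
  rw [e, Nat.zero_testBit, Bool.and_eq_false_iff]
  by_cases hi : i < 4060
  · left
    have := hc ⟨i, hi⟩
    rwa [ne_eq, Bool.not_eq_true] at this
  · right
    rw [← Bool.not_eq_true, testBit_FM]
    exact hi

theorem diff0 (j : Fin 4060) (h : ∀ k : Fin 4060, (row 0).testBit k = (row j).testBit k) : j.val = 0 := by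
  have h1 := chk_dist
  rw [force_eq, force_eq] at h1
  have h2 := (allB_iff _ _).1 h1 j.val j.2
  by_contra hj
  have e1 : Nat.beq j.val 0 = false := by
    rw [Bool.eq_false_iff, ne_eq, Nat.beq_eq]; exact hj
  rw [e1] at h2
  have h3 : Nat.land (Nat.xor (row 0) (row j)) FM ≠ 0 := by
    intro h3
    have e2 : Nat.beq (Nat.land (Nat.xor (row 0) (row j.val)) FM) 0 = true := by rw [h3]; rfl
    simp only [e2] at h2
    exact absurd h2 (by decide)
  obtain ⟨k, hk⟩ := exists_diff h3
  have e3 : (Nat.xor (row 0) (row j)).testBit k = ((row 0).testBit k ^^ (row j).testBit k) :=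
    Nat.testBit_xor _ _ _
  rw [e3, h k] at hk
  simp at hk

/-- different points have different neighbourhoods -/
theorem distinct (v w : Fin 4060) (h : ∀ k : Fin 4060, (row v).testBit k = (row w).testBit k) : v = w := by
  obtain ⟨g, hg⟩ := isPretransitive.exists_smul_eq v (⟨0, by norm_num⟩ : Fin 4060)
  have hm := mem_Aut.1 g.2
  have hgv : (g : Equiv.Perm (Fin 4060)) v = ⟨0, by norm_num⟩ := hg
  have h1 : ((g : Equiv.Perm (Fin 4060)) w).val = 0 := by
    apply diff0
    intro k
    obtain ⟨k, rfl⟩ := (g : Equiv.Perm (Fin 4060)).surjective k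
    have a := hm v k
    have b := hm w k
    rw [hgv] at a
    change (row 0).testBit _ = _ at a
    rw [a, b, h]
  have h2 : (g : Equiv.Perm (Fin 4060)) w = (g : Equiv.Perm (Fin 4060)) v := by
    rw [hgv]; exact Fin.ext h1
  exact ((g : Equiv.Perm (Fin 4060)).injective h2).symm

/-- any point has a common non-neighbour with the point `0` -/
theorem conn (j : Fin 4060) : ∃ k : Fin 4060, (row 0).testBit k = false ∧ (row j).testBit k = false := by
  have h1 := chk_conn
  rw [force_eq, force_eq] at h1
  have h2 := (allB_iff _ _).1 h1 j.val j.2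
  by_contra hc
  push Not at hc
  have h3 : Nat.land (Nat.lor (row 0) (row j)) FM = FM := by
    apply Nat.eq_of_testBit_eq
    intro i
    have e : (Nat.land (Nat.lor (row 0) (row j)) FM).testBit i =
        ((Nat.lor (row 0) (row j)).testBit i && FM.testBit i) := Nat.testBit_and _ FM i
    have e' : (Nat.lor (row 0) (row j)).testBit i = ((row 0).testBit i || (row j).testBit i) :=
      Nat.testBit_or _ _ _
    rw [e, e']
    by_cases hi : i < 4060
    · have h4 := hc ⟨i, hi⟩
      have h5 : FM.testBit i = true := (testBit_FM i).2 hi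
      rw [h5, Bool.and_true]
      cases h6 : (row 0).testBit i
      · have h7 := h4 h6
        rw [ne_eq, Bool.not_eq_false] at h7
        rw [Bool.false_or]; exact h7
      · rfl
    · have h5 : FM.testBit i = false := by
        rw [← Bool.not_eq_true, testBit_FM]; exact hi
      rw [h5, Bool.and_false]
  have e2 : Nat.beq (Nat.land (Nat.lor (row 0) (row j.val)) FM) FM = true := by
    rw [h3, Nat.beq_eq]
  simp only [e2] at h2
  exact absurd h2 (by decide)

end Cfsg.Agent.RuLat.Rows
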