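import Cfsg.Agent.RuLat.Orth
import Cfsg.Agent.RuLat.Mem
import Cfsg.Agent.RuLat.Rows
import Cfsg.Agent.RuLat.Lift

set_option autoImplicit false
set_option maxRecDepth 100000
set_option exponentiation.threshold 5000

/-!
The norm of the 4060 vectors, spanning by the basis lines; everything of `Hyp` except the classification of the
vectors of norm 16.
-/

namespace Cfsg.Agent.RuLat.Prep

open Cfsg.Spor Cfsg.Agent.SporadicB Cfsg.Agent.Ru900 Cfsg.Agent.Ru900.Coord Cfsg.Agent.Ru900.Lat Cfsg.Agent.Ru900.Data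
open Cfsg.Agent.RuLat

/-! ### norms -/

/-- number of nonzero entries -/
noncomputable def cntN (i : ℕ) (l : List (ℕ × ℕ × ℕ)) : ℕ :=
  List.rec 0 (fun P _ ih => Nat.add (cond (Nat.testBit P.1 i) 1 (cond (Nat.testBit P.2.1 i) 1 0)) ih) l

noncomputable def okNorm (i : ℕ) : Bool := Nat.beq (Nat.mul (Nat.mul (scaleN i) (scaleN i)) (cntN i planes)) 16

theorem okNorm_spec {i : ℕ} (h : okNorm i = true) : scaleN i * scaleN i * cntN i planes = 16 := by
  unfold okNorm at h
  exact Nat.eq_of_beq_eq_true h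

theorem norms_ok : Pack.allN 4060 okNorm = true := by decide +kernel

theorem sum_self (i : ℕ) : ∀ (l : List (ℕ × ℕ × ℕ)), (∀ P ∈ l, ¬ (P.1.testBit i = true ∧ P.2.1.testBit i = true)) →
    (l.map (fun P => reP P i i)).sum = cntN i l
  | [], _ => rfl
  | P :: l, h => by
    have e : cntN i (P :: l) = (cond (Nat.testBit P.1 i) 1 (cond (Nat.testBit P.2.1 i) 1 0)) + cntN i l := rfl
    rw [List.map_cons, List.sum_cons, sum_self i l (fun Q hQ => h Q (List.mem_cons_of_mem _ hQ)), e, Nat.cast_add]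
    congr 1
    have hP := h P List.mem_cons_self
    unfold reP uentP
    cases h1 : P.1.testBit i <;> cases h2 : P.2.1.testBit i
    · cases P.2.2.testBit i <;> decide
    · cases P.2.2.testBit i <;> decide
    · cases P.2.2.testBit i <;> decide
    · exact absurd ⟨h1, h2⟩ hP

theorem mul_re_aux (s : ℕ) (z : GaussianInt) (a : GaussianInt) (ha : a = (s : GaussianInt)) (c : ℕ) (hz : z.re = c)
    (h : s * s * c = 16) : (a * a * z).re = 16 := by
  subst ha
  rw [← Nat.cast_mul, natCast_mul_re, hz, ← Nat.cast_mul, h]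
  rfl

theorem norm_vec {i : ℕ} (hi : i < 4060) : ruNorm (vec i) = 16 := by
  have h1 : scaleN i * scaleN i * cntN i planes = 16 := okNorm_spec (Pack.allN_spec norms_ok i hi)
  have h2 := sum_self i planes (disj_mem i)
  rw [← herm_self_re, herm_vec]
  exact mul_re_aux (scaleN i) _ (scale i) (scale_eq i) (cntN i planes) h2 h1

/-! ### the basis -/

theorem chk_B : ∀ k : Fin 28, ∀ j : Fin 28,
    ((dig (Bc.getD k 0) (2 * j) : ℤ) - 8 =
      (if frameMask.testBit (bl k) then 4 else 1) * Mem.ent (pR j) (pS j) (bl k)) ∧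
    ((dig (Bc.getD k 0) (2 * j + 1) : ℤ) - 8 =
      (if frameMask.testBit (bl k) then 4 else 1) * Mem.ent (pI j) (pS j) (bl k)) := by decide +kernel

theorem B_eq (k : Fin 28) : Bv k = vec (bl k) := by
  apply ext_crd
  intro q hq
  obtain ⟨j, hj | hj⟩ : ∃ j : Fin 28, q = 2 * (j : ℕ) ∨ q = 2 * (j : ℕ) + 1 := by
    refine ⟨⟨q / 2, by omega⟩, ?_⟩
    change q = 2 * (q / 2) ∨ q = 2 * (q / 2) + 1
    omega
  · rw [hj, Mem.crd_vec_even _ _ j.2, Bv, crd_vec _ _ (by omega)]
    exact (chk_B k j).1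
  · rw [hj, Mem.crd_vec_odd _ _ j.2, Bv, crd_vec _ _ (by omega)]
    exact (chk_B k j).2

theorem B_eq' (k : Fin 28) : Bv (k + 28) = gI • vec (bl k) := by
  rw [← Cfsg.Agent.Ru900.Eq.gI_B k k.2, B_eq]
  rfl

theorem span_bl : Span bl := by
  refine ⟨fun x hx => ?_⟩
  rw [Cfsg.Agent.Ru900.Eq.ruLattice_eq] at hx
  obtain ⟨c, hc⟩ := exists_coeff hx
  refine ⟨fun j => ⟨c j, c (j + 28)⟩, ?_⟩
  rw [hc, show (56 : ℕ) = 28 + 28 from rfl, Finset.sum_range_add, ← Finset.sum_add_distrib, ← Fin.sum_univ_eq_sum_range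
    (fun k => c k • Bv k + c (28 + k) • Bv (28 + k))]
  apply Finset.sum_congr rfl
  intro j _
  rw [add_comm 28 (j : ℕ), B_eq, B_eq']
  funext q
  simp only [Pi.smul_apply, Pi.add_apply, smul_eq_mul, zsmul_eq_mul]
  ext <;> simp [gI]

/-- everything but the classification of the vectors of norm 16 -/
theorem hyp_of_complete (h : ∀ x ∈ ruLattice, ruNorm x = 16 → ∃ i < 4060, ∃ e < 4, x = gI ^ e • vec i) : Hyp where
  mem := fun i => Mem.vec_mem i i.2
  norm := fun i => norm_vec i.2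
  complete := fun x hx h16 => by
    obtain ⟨i, hi, e, he, h⟩ := h x hx h16
    exact ⟨⟨i, hi⟩, e, he, h⟩
  orth := orth_iff
  distinct := Rows.distinct
  conn := Rows.conn

end Cfsg.Agent.RuLat.Prep
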